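import Cfsg.Agent.Lib.CharDeep.PrimePowerClass
import Mathlib.GroupTheory.Sylow
import Mathlib.GroupTheory.Nilpotent

/-!
# Centralizer orders in a simple group
-/

set_option autoImplicit false
set_option linter.unusedSectionVars false
set_option linter.style.haveILetI false

namespace CfsgLib.Characterizations.RankThree

open Subgroup

variable {G : Type*} [Group G]

/-- The centralizer of an element. -/
def cz (x : G) : Subgroup G := centralizer ({x} : Set G)

/-- The order of the centralizer of an element. -/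
noncomputable def cc (x : G) : ℕ := Nat.card (cz x)

theorem mem_cz {x y : G} : y ∈ cz x ↔ Commute y x := mem_centralizer_singleton_iff

theorem self_mem (x : G) : x ∈ cz x := mem_cz.2 (Commute.refl x)

theorem cz_le_pow (x : G) (j : ℕ) : cz x ≤ cz (x ^ j) := fun _ h =>
  mem_cz.2 ((mem_cz.1 h).pow_right j)

theorem mem_cz_conj {g x z : G} : z ∈ cz (g * x * g⁻¹) ↔ g⁻¹ * z * g ∈ cz x := by
  rw [mem_cz, mem_cz]
  constructor
  · intro h
    calc g⁻¹ * z * g * x = g⁻¹ * (z * (g * x * g⁻¹)) * g := by group
      _ = g⁻¹ * ((g * x * g⁻¹) * z) * g := by rw [h.eq]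
      _ = _ := by group
  · intro h
    calc z * (g * x * g⁻¹) = g * (g⁻¹ * z * g * x) * g⁻¹ := by group
      _ = g * (x * (g⁻¹ * z * g)) * g⁻¹ := by rw [h.eq]
      _ = _ := by group

theorem cc_conj (g x : G) : cc (g * x * g⁻¹) = cc x :=
  Nat.card_congr
    { toFun := fun z => ⟨g⁻¹ * z.1 * g, mem_cz_conj.1 z.2⟩
      invFun := fun z => ⟨g * z.1 * g⁻¹, mem_cz_conj.2 (by simp [mul_assoc])⟩
      left_inv := fun z => Subtype.ext (by simp [mul_assoc])
      right_inv := fun z => Subtype.ext (by simp [mul_assoc]) }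

theorem conj_ne_one {x : G} (hx : x ≠ 1) (g : G) : g * x * g⁻¹ ≠ 1 := fun e => hx (by
  calc x = g⁻¹ * (g * x * g⁻¹) * g := by group
    _ = 1 := by rw [e]; group)

section Finite

variable [Finite G]

theorem cc_dvd (x : G) : cc x ∣ Nat.card G := card_subgroup_dvd_card _

theorem cc_mul_index (x : G) : cc x * (cz x).index = Nat.card G := card_mul_index _

theorem dvd_cc_of_le {x y : G} (h : cz x ≤ cz y) : cc x ∣ cc y := card_dvd_of_le h

theorem cz_eq_of_le {x y : G} (h : cz x ≤ cz y) (hc : cc y = cc x) : cz x = cz y :=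
  eq_of_le_of_card_ge h hc.le

theorem orderOf_dvd_cc (x : G) : orderOf x ∣ cc x := orderOf_dvd_natCard _ (self_mem x)

/-- A non-identity element has a power of prime order. -/
theorem exists_prime_pow {x : G} (hx : x ≠ 1) :
    ∃ j p : ℕ, p.Prime ∧ p ∣ orderOf x ∧ orderOf (x ^ j) = p ∧ x ^ j ≠ 1 := by
  have h1 : orderOf x ≠ 1 := fun e => hx (orderOf_eq_one_iff.1 e)
  obtain ⟨p, hp, hd⟩ := Nat.exists_prime_and_dvd h1
  have ho : orderOf (x ^ (orderOf x / p)) = p := orderOf_pow_orderOf_div (orderOf_pos x).ne' hd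
  exact ⟨_, p, hp, hd, ho, fun e => hp.ne_one (by rw [← ho, e, orderOf_one])⟩

/-- Commuting elements of coprime orders: the product remembers both factors. -/
theorem cz_mul_le {a b : G} (hab : Commute a b) (hco : (orderOf a).Coprime (orderOf b)) :
    cz (a * b) ≤ cz a ∧ cz (a * b) ≤ cz b := by
  have key : ∀ {u v : G}, Commute u v → (orderOf u).Coprime (orderOf v) → cz (u * v) ≤ cz u := by
    intro u v huv hco z hz
    have h1 : Commute z (u * v) := mem_cz.1 hz
    have h2 : (u * v) ^ orderOf v = u ^ orderOf v := by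
      rw [huv.mul_pow, pow_orderOf_eq_one, mul_one]
    obtain ⟨k, hk⟩ := exists_pow_eq_self_of_coprime hco.symm
    refine mem_cz.2 ?_
    have h3 := (h1.pow_right (orderOf v)).pow_right k
    rw [h2, hk] at h3
    exact h3
  refine ⟨key hab hco, ?_⟩
  rw [hab.eq]
  exact key hab.symm hco.symm

theorem mul_ne_one_of_coprime {a b : G} (hco : (orderOf a).Coprime (orderOf b)) (ha : a ≠ 1) :
    a * b ≠ 1 := fun e => ha (orderOf_eq_one_iff.1 ((Nat.coprime_self _).1 (by
    rwa [show b = a⁻¹ from eq_inv_of_mul_eq_one_right e, orderOf_inv] at hco)))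

section Simple

variable [IsSimpleGroup G] (hnc : ¬ IsMulCommutative G)

include hnc

theorem center_bot : center G = ⊥ := by
  rcases (inferInstance : (center G).Normal).eq_bot_or_eq_top with h | h
  · exact h
  · exact absurd (center_eq_top_iff.1 h) hnc

theorem not_solvable : ¬ Group.IsSolvable G := fun hs =>
  hnc ⟨⟨fun a b => (IsSimpleGroup.comm_iff_isSolvable.2 hs) a b⟩⟩

theorem cz_ne_top {x : G} (hx : x ≠ 1) : cz x ≠ ⊤ := fun h => hx (mem_bot.1 (center_bot hnc ▸
  mem_center_iff.2 fun g => mem_cz.1 (h ▸ mem_top g)))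

theorem cc_ne_card {x : G} (hx : x ≠ 1) : cc x ≠ Nat.card G := fun h =>
  cz_ne_top hnc hx (eq_top_of_card_eq _ h)

/-- Burnside: no conjugacy class has prime power size. -/
theorem index_ne_prime_pow {x : G} (hx : x ≠ 1) {p k : ℕ} (hp : p.Prime) :
    (cz x).index ≠ p ^ k := by
  intro h
  apply not_solvable hnc
  have hs := CfsgLib.CharDeep.PrimePowerClass.isSolvable_normalClosure x hp k h
  rcases (normalClosure_normal (s := ({x} : Set G))).eq_bot_or_eq_top with e | e
  · exact absurd (mem_bot.1 (e ▸ subset_normalClosure (Set.mem_singleton x))) hx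
  · rw [e] at hs
    haveI := hs
    exact Group.isSolvable_of_surjective (f := (Subgroup.topEquiv (G := G)).toMonoidHom)
      (Subgroup.topEquiv (G := G)).surjective

end Simple

/-- A Sylow subgroup is centralized by some element of it. -/
theorem exists_full {p : ℕ} [Fact p.Prime] (h : p ∣ Nat.card G) :
    ∃ z : G, z ≠ 1 ∧ ∃ P : Sylow p G, (P : Subgroup G) ≤ cz z := by
  obtain ⟨P⟩ := (inferInstance : Nonempty (Sylow p G))
  have hd := P.dvd_card_of_dvd_card h
  haveI : Nontrivial (P : Subgroup G) := Finite.one_lt_card_iff_nontrivial.1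
    ((Fact.out : p.Prime).one_lt.trans_le (Nat.le_of_dvd Nat.card_pos hd))
  haveI := P.2.center_nontrivial
  obtain ⟨z, hz⟩ := exists_ne (1 : center (P : Subgroup G))
  refine ⟨(z : (P : Subgroup G)), fun e => hz (Subtype.ext (Subtype.ext e)), P, fun g hg => ?_⟩
  exact mem_cz.2 (congrArg Subtype.val (mem_center_iff.1 z.2 ⟨g, hg⟩))

/-- If the full `p`-part divides the order of a subgroup, it contains a Sylow `p`-subgroup. -/
theorem exists_sylow_le (p : ℕ) [Fact p.Prime] {A : Subgroup G}
    (h : p ^ (Nat.card G).factorization p ∣ Nat.card A) :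
    ∃ P : Sylow p G, (P : Subgroup G) ≤ A := by
  obtain ⟨K, hK⟩ := Sylow.exists_subgroup_card_pow_prime p h
  refine ⟨Sylow.ofCard (K.map A.subtype) (by rw [card_subtype, hK]), fun g hg => ?_⟩
  obtain ⟨k, -, rfl⟩ := (hg : g ∈ K.map A.subtype)
  exact k.2

/-- Two subgroups with coprime indices factorize the group. -/
theorem exists_mul_eq {A B : Subgroup G} (h : A.index.Coprime B.index) (g : G) :
    ∃ b ∈ B, ∃ a ∈ A, g = b * a := by
  let f : B ⧸ A.subgroupOf B → G ⧸ A :=
    Quotient.map' (fun q => (q : G)) fun a b hab => by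
      rw [QuotientGroup.leftRel_apply] at hab ⊢
      exact hab
  have hinj : Function.Injective f := by
    intro a b
    induction a using QuotientGroup.induction_on
    induction b using QuotientGroup.induction_on
    intro hab
    exact QuotientGroup.eq.2 (QuotientGroup.eq (s := A).1 hab)
  have hd : A.index ∣ A.relIndex B := by
    have h1 : (A ⊓ B).relIndex B * B.index = (A ⊓ B).index := relIndex_mul_index inf_le_right
    rw [inf_relIndex_right] at h1
    exact h.dvd_of_dvd_mul_right (h1 ▸ index_dvd_of_le inf_le_left)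
  have hle : Nat.card (G ⧸ A) ≤ Nat.card (B ⧸ A.subgroupOf B) :=
    Nat.le_of_dvd Nat.card_pos hd
  have hsurj := ((Nat.bijective_iff_injective_and_card f).2
    ⟨hinj, le_antisymm (Nat.card_le_card_of_injective f hinj) hle⟩).2
  obtain ⟨c, hc⟩ := hsurj (g : G ⧸ A)
  induction c using QuotientGroup.induction_on with
  | H q => exact ⟨q, q.2, (q : G)⁻¹ * g, QuotientGroup.eq.1 hc, by group⟩

/-- A finite group whose `p'`-elements are central is nilpotent. -/
theorem isNilpotent_of_central {K : Type*} [Group K] [Finite K] (p : ℕ) [hp : Fact p.Prime]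
    (h : ∀ u : K, ¬ p ∣ orderOf u → u ∈ center K) : Group.IsNilpotent K := by
  have hpg : IsPGroup p (K ⧸ center K) := by
    intro q
    induction q using QuotientGroup.induction_on with
    | H u =>
      refine ⟨(orderOf u).factorization p, ?_⟩
      rw [← QuotientGroup.mk_pow]
      refine (QuotientGroup.eq_one_iff _).2 (h _ ?_)
      rw [orderOf_pow' u (pow_ne_zero _ hp.out.ne_zero),
        Nat.gcd_eq_right (Nat.ordProj_dvd _ _)]
      exact Nat.not_dvd_ordCompl hp.out (orderOf_pos u).ne'
  exact Group.of_quotient_center_nilpotent hpg.isNilpotent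

end Finite

end CfsgLib.Characterizations.RankThree
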