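import Cfsg.Agent.Lib.DegreeTools.Basic
import Cfsg.Agent.Lib.Char.TI
import Cfsg.Agent.Lib.Char.Constituent

/-!
# Permutation characters with an abelian self-centralizing Hall complement

`G` simple, `A` a subgroup and `H` an abelian complementary subgroup of coprime order that
centralizes exactly each of its non-identity elements: the degrees of the constituents of the
permutation character on the cosets of `A` are prime to `|H|`, so an element with class size
`|H|` fixes exactly one coset.
-/

set_option autoImplicit false
set_option linter.unusedSectionVars false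

open scoped ComplexConjugate

namespace CfsgLib.Characterizations.RankThree.Character

open CfsgLib.Char CfsgLib.DegreeTools

universe u

variable {G : Type u} [Group G] [Fintype G] (H : Subgroup G) [Fintype H]

/-- Conjugation by an element of the normaliser. -/
def conjHom (x : Subgroup.normalizer (H : Set G)) : H →* H where
  toFun h := ⟨(x : G)⁻¹ * h * x, by
    have := (Subgroup.mem_normalizer_iff.1 (inv_mem x.2) (h : G)).1 h.2
    simpa using this⟩
  map_one' := Subtype.ext (by simp)
  map_mul' a b := Subtype.ext (by simp [mul_assoc])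

theorem conjHom_surjective (x : Subgroup.normalizer (H : Set G)) :
    Function.Surjective (conjHom H x) := fun h =>
  ⟨⟨(x : G) * h * (x : G)⁻¹, (Subgroup.mem_normalizer_iff.1 x.2 (h : G)).1 h.2⟩,
    Subtype.ext (by simp [conjHom, mul_assoc])⟩

/-- The conjugate of a character of `H` under its normaliser. -/
noncomputable def tw (x : Subgroup.normalizer (H : Set G)) (a : Cfsg.IrrCharacter H) :
    Cfsg.IrrCharacter H :=
  ⟨_, IsIrrCharacter.comp_surjective a.2 (conjHom H x) (conjHom_surjective H x)⟩

theorem tw_apply (x : Subgroup.normalizer (H : Set G)) (a : Cfsg.IrrCharacter H) (h : H) :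
    (tw H x a : H → ℂ) h = (a : H → ℂ) (conjHom H x h) := rfl

/-- Restriction multiplicities are constant on the orbits of the normaliser. -/
theorem classInner_tw {χ : G → ℂ} (hχ : Cfsg.IsClassFunction G χ)
    (x : Subgroup.normalizer (H : Set G)) (a : Cfsg.IrrCharacter H) :
    Cfsg.classInner (fun h : H => χ h) (tw H x a : H → ℂ) =
      Cfsg.classInner (fun h : H => χ h) (a : H → ℂ) := by
  simp only [Cfsg.classInner]
  congr 1
  refine Fintype.sum_bijective (conjHom H x)
    ((Finite.surjective_iff_bijective).1 (conjHom_surjective H x)) _ _ fun h => ?_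
  have h1 : χ ((x : G)⁻¹ * h * x) = χ h := by simpa using hχ (h : G) (x : G)⁻¹
  rw [tw_apply, ← h1]
  rfl

section TI

variable (hab : ∀ a b : H, a * b = b * a)
variable (hcent : ∀ h ∈ H, h ≠ 1 → Subgroup.centralizer ({h} : Set G) = H)

include hcent in
theorem mem_normalizer_of_conj {x h : G} (hh : h ∈ H) (h1 : h ≠ 1) (hx : x⁻¹ * h * x ∈ H) :
    x ∈ Subgroup.normalizer (H : Set G) := by
  have h2 : x⁻¹ * h * x ≠ 1 := fun e => h1 (by
    calc h = x * (x⁻¹ * h * x) * x⁻¹ := by group
      _ = 1 := by rw [e]; group)
  have e1 : ∀ g : G, g ∈ H ↔ g * h = h * g := fun g => by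
    conv_lhs => rw [← hcent h hh h1]
    exact Subgroup.mem_centralizer_singleton_iff
  have e2 : ∀ g : G, g ∈ H ↔ g * (x⁻¹ * h * x) = (x⁻¹ * h * x) * g := fun g => by
    conv_lhs => rw [← hcent _ hx h2]
    exact Subgroup.mem_centralizer_singleton_iff
  refine Subgroup.mem_normalizer_iff.2 fun g => ?_
  rw [e2 g, e1 (x * g * x⁻¹)]
  constructor
  · intro e
    calc x * g * x⁻¹ * h = x * (g * (x⁻¹ * h * x)) * x⁻¹ := by group
      _ = x * ((x⁻¹ * h * x) * g) * x⁻¹ := by rw [e]
      _ = _ := by group
  · intro e
    calc g * (x⁻¹ * h * x) = x⁻¹ * (x * g * x⁻¹ * h) * x := by group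
      _ = x⁻¹ * (h * (x * g * x⁻¹)) * x := by rw [e]
      _ = _ := by group

include hab in
theorem apply_one (a : Cfsg.IrrCharacter H) : (a : H → ℂ) 1 = 1 := apply_one_eq_one_of_comm hab a.2

include hab hcent in
/-- The inner product of two induced differences of linear characters. -/
theorem inner_ind_diff [DecidableEq (Cfsg.IrrCharacter H)]
    [Fintype (Subgroup.normalizer (H : Set G))] (a b c d : Cfsg.IrrCharacter H) :
    Cfsg.classInner (Cfsg.indFun H ((a : H → ℂ) - (b : H → ℂ)))
        (Cfsg.indFun H ((c : H → ℂ) - (d : H → ℂ))) =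
      (Nat.card H : ℂ)⁻¹ * ∑ x : Subgroup.normalizer (H : Set G),
        (((if a = tw H x c then 1 else 0) - (if a = tw H x d then 1 else 0))
          - ((if b = tw H x c then 1 else 0) - (if b = tw H x d then 1 else 0)) : ℂ) := by
  classical
  rw [classInner_indFun H _ (indFun_isClassFunction H _)]
  have hval : (fun h : H => Cfsg.indFun H ((c : H → ℂ) - (d : H → ℂ)) h) =
      (Nat.card H : ℂ)⁻¹ • ∑ x : Subgroup.normalizer (H : Set G),
        ((tw H x c : H → ℂ) - (tw H x d : H → ℂ)) := by
    ext h
    simp only [Pi.smul_apply, Finset.sum_apply, Pi.sub_apply, smul_eq_mul]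
    rcases eq_or_ne h 1 with rfl | h1
    · rw [OneMemClass.coe_one, indFun_one, Pi.sub_apply, apply_one H hab, apply_one H hab]
      simp [apply_one H hab]
    rw [indFun_def]
    congr 1
    rw [← Finset.sum_filter_of_ne (s := (Finset.univ : Finset G))
      (p := fun x : G => x ∈ Subgroup.normalizer (H : Set G))]
    · rw [Finset.sum_subtype (p := fun x : G => x ∈ Subgroup.normalizer (H : Set G))
        (Finset.univ.filter fun x : G => x ∈ Subgroup.normalizer (H : Set G)) (fun x => by simp)]
      refine Finset.sum_congr rfl fun x _ => ?_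
      exact extendByZero_coe H _ (conjHom H x h)
    · intro x _ hx
      by_contra hn
      exact hx (extendByZero_apply_notMem H _ fun hm =>
        hn (mem_normalizer_of_conj H hcent h.2 (fun e => h1 (Subtype.ext e)) hm))
  rw [hval, classInner_smul_right, map_inv₀, map_natCast]
  congr 1
  rw [classInner_sum_right]
  refine Finset.sum_congr rfl fun x _ => ?_
  rw [classInner_sub_left, classInner_sub_right, classInner_sub_right, classInner_irrCharacter,
    classInner_irrCharacter, classInner_irrCharacter, classInner_irrCharacter]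

include hab hcent in
/-- Only the elements of `H` fix a nontrivial linear character of `H`. -/
theorem tw_fixed_iff (a : Cfsg.IrrCharacter H) (ha : a ≠ oneChar H)
    (x : Subgroup.normalizer (H : Set G)) : tw H x a = a ↔ (x : G) ∈ H := by
  constructor
  · intro hfix
    by_contra hx
    apply ha
    obtain ⟨φ, hφ⟩ := exists_hom_of_apply_one_eq_one (isCharacter_irr a) (apply_one H hab a)
    have hinj : Function.Injective fun h : H => h⁻¹ * conjHom H x h := by
      intro h k e
      have e' : h * k⁻¹ = conjHom H x (h * k⁻¹) := by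
        have e2 : conjHom H x h = h * (k⁻¹ * conjHom H x k) := by
          simp only at e; rw [← e, mul_inv_cancel_left]
        rw [map_mul, map_inv, e2]
        group
      by_contra hne
      have hm : (h * k⁻¹ : H) ≠ 1 := fun e1 => hne (mul_inv_eq_one.1 e1)
      refine hx ?_
      refine (SetLike.ext_iff.1 (hcent _ (h * k⁻¹).2 fun e1 => hm (Subtype.ext e1)) _).1 ?_
      rw [Subgroup.mem_centralizer_singleton_iff]
      have := congrArg (fun z : H => (x : G) * (z : G)) e'
      simpa [conjHom, mul_assoc] using this
    have hker : ∀ h : H, φ h = 1 := by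
      intro h
      obtain ⟨k, rfl⟩ := (Finite.injective_iff_surjective.1 hinj) h
      have h2 := congrFun (congrArg (fun z : Cfsg.IrrCharacter H => (z : H → ℂ)) hfix) k
      rw [tw_apply, hφ] at h2
      simp only at h2
      rw [map_mul, map_inv, Units.ext h2, inv_mul_cancel]
    refine Subtype.ext ?_
    rw [hφ]
    ext h
    simp [hker h]
  · intro hx
    refine Subtype.ext (funext fun h => ?_)
    rw [tw_apply]
    refine congrArg _ (Subtype.ext ?_)
    have := congrArg Subtype.val (hab h ⟨x, hx⟩)
    simp only [Subgroup.coe_mul] at this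
    simp [conjHom, mul_assoc, this]

end TI

/-- An element whose class has size `|H|` fixes exactly one coset of `A`. -/
theorem card_fixed [IsSimpleGroup G] (A : Subgroup G)
    (hcop : (Nat.card A).Coprime (Nat.card H)) (hcard : Nat.card A * Nat.card H = Nat.card G)
    (hab : ∀ a b : H, a * b = b * a)
    (hcent : ∀ h ∈ H, h ≠ 1 → Subgroup.centralizer ({h} : Set G) = H)
    (hZ : Subgroup.center G = ⊥) {x : G} (hx1 : x ≠ 1)
    (hidx : (Subgroup.centralizer ({x} : Set G)).index = Nat.card H) :
    Nat.card {g : G // g⁻¹ * x * g ∈ A} = Nat.card A := by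
  classical
  cases nonempty_fintype A
  set π : G → ℂ := Cfsg.indFun A (fun _ => 1) with hπdef
  have hπc : Cfsg.IsCharacter G π := IsCharacter.indFun A isCharacter_one
  obtain ⟨m, hm, hsum⟩ := IsCharacter.exists_multiplicity hπc
  have hA0 : (Nat.card A : ℂ) ≠ 0 := card_ne_zero
  have hH0 : (Nat.card H : ℂ) ≠ 0 := card_ne_zero
  have hindex : A.index = Nat.card H := Nat.eq_of_mul_eq_mul_left Nat.card_pos
    (A.card_mul_index.trans hcard.symm)
  have hm1 : m (oneChar G) = 1 := by
    have h := hm (oneChar G)
    rw [hπdef, classInner_indFun A _ (IsCharacter.isClassFunction (isCharacter_irr _))] at h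
    have h' : Cfsg.classInner (fun _ : A => (1 : ℂ)) (fun _ : A => (1 : ℂ)) = 1 :=
      classInner_irr_self isIrrCharacter_one
    simp only [coe_oneChar, h'] at h
    exact_mod_cast h.symm
  have hπH : (fun h : H => π h) = fun h => if h = 1 then (Nat.card H : ℂ) else 0 := by
    ext h
    split_ifs with h1
    · subst h1
      rw [OneMemClass.coe_one, hπdef, indFun_one, mul_one, hindex]
    · refine indFun_eq_zero_of_forall A _ fun g hg => h1 ?_
      have hd1 : orderOf (g⁻¹ * (h : G) * g) ∣ Nat.card A := Subgroup.orderOf_dvd_natCard A hg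
      have hd2 : orderOf (h : G) ∣ Nat.card H := Subgroup.orderOf_dvd_natCard H h.2
      have he : orderOf (g⁻¹ * (h : G) * g) = orderOf (h : G) := by
        simpa using (MulAut.conj g⁻¹).orderOf_eq (h : G)
      rw [he] at hd1
      exact Subtype.ext (orderOf_eq_one_iff.1 (Nat.eq_one_of_dvd_coprimes hcop hd1 hd2))
  choose a ha using fun (χ : Cfsg.IrrCharacter G) (l : Cfsg.IrrCharacter H) =>
    IsCharacter.classInner_nat (IsCharacter.restrict (isCharacter_irr χ) H) (isCharacter_irr l)
  -- every character of `H` occurs once in the restriction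
  have hone : ∀ l : Cfsg.IrrCharacter H, ∑ χ, m χ * a χ l = 1 := by
    intro l
    have h1 : Cfsg.classInner (fun h : H => π h) (l : H → ℂ) = 1 := by
      rw [hπH, Cfsg.classInner]
      simp [apply_one H hab]
    have h2 : (fun h : H => π h) = ∑ χ : Cfsg.IrrCharacter G,
        (m χ : ℂ) • (fun h : H => (χ : G → ℂ) h) := by
      ext h
      rw [hsum]
      simp [Finset.sum_apply]
    rw [h2, classInner_sum_left] at h1
    simp only [classInner_smul_left, ha] at h1
    exact_mod_cast h1
  have hle : ∀ χ l, m χ * a χ l ≤ 1 := fun χ l => (hone l) ▸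
    Finset.single_le_sum (f := fun ψ => m ψ * a ψ l) (fun _ _ => Nat.zero_le _) (Finset.mem_univ χ)
  have huniq : ∀ χ ψ l, χ ≠ ψ → m χ * a χ l ≠ 0 → m ψ * a ψ l = 0 := by
    intro χ ψ l hne hc
    have h := Finset.sum_le_sum_of_subset (f := fun ξ => m ξ * a ξ l)
      (Finset.subset_univ ({χ, ψ} : Finset _))
    rw [Finset.sum_pair hne, hone] at h
    omega
  have ha1 : a (oneChar G) (oneChar H) = 1 := by
    have h := ha (oneChar G) (oneChar H)
    simp only [coe_oneChar] at h
    have h' : Cfsg.classInner (fun _ : H => (1 : ℂ)) (oneChar H : H → ℂ) = 1 :=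
      classInner_irr_self isIrrCharacter_one
    rw [h'] at h
    exact_mod_cast h.symm
  have hzero : ∀ χ, χ ≠ oneChar G → m χ ≠ 0 → a χ (oneChar H) = 0 := fun χ hne hmne =>
    (Nat.mul_eq_zero.1 (huniq (oneChar G) χ _ hne.symm (by rw [hm1, ha1]; norm_num))).resolve_left
      hmne
  have hdeg : ∀ χ : Cfsg.IrrCharacter G, Cfsg.charDegree (χ : G → ℂ) = ∑ l, a χ l := by
    intro χ
    apply Nat.cast_injective (R := ℂ)
    rw [deg_cast, Nat.cast_sum]
    have h := congrFun (IsClassFunction.eq_sum_irr
      (IsCharacter.isClassFunction (IsCharacter.restrict (isCharacter_irr χ) H))) 1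
    simp only [Finset.sum_apply, Pi.smul_apply, smul_eq_mul, ha, apply_one H hab, mul_one,
      OneMemClass.coe_one] at h
    exact h
  have hirr : Fintype.card (Cfsg.IrrCharacter H) = Nat.card H := by
    have h := sum_sq_apply_one (G := H)
    simp only [apply_one H hab, one_pow, Finset.sum_const, Finset.card_univ, nsmul_eq_mul,
      mul_one] at h
    exact_mod_cast h
  -- the degrees are prime to `|H|`
  have hcopdeg : ∀ χ, χ ≠ oneChar G → m χ ≠ 0 →
      (Cfsg.charDegree (χ : G → ℂ)).Coprime (Nat.card H) := by
    intro χ hne hmne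
    have ha01 : ∀ l, a χ l = if 0 < a χ l then 1 else 0 := fun l => by
      have := hle χ l
      have hmpos : 1 ≤ m χ := Nat.pos_of_ne_zero hmne
      split_ifs with hp
      · have : 1 * a χ l ≤ 1 := (Nat.mul_le_mul_right _ hmpos).trans this
        omega
      · omega
    set S := Finset.univ.filter fun l => 0 < a χ l with hS
    have hd : Cfsg.charDegree (χ : G → ℂ) = S.card := by
      rw [hdeg, Finset.sum_congr rfl fun l _ => ha01 l, hS, Finset.card_filter]
    have hSne : S.Nonempty := Finset.card_pos.1 (hd ▸ deg_pos χ)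
    have hS1 : oneChar H ∉ S := by simp [hS, hzero χ hne hmne]
    by_cases hall : ∀ ψ, ψ ≠ oneChar G → m ψ ≠ 0 → ψ = χ
    · have hSeq : S = Finset.univ.erase (oneChar H) := by
        ext l
        refine ⟨fun hl => Finset.mem_erase.2 ⟨fun e => hS1 (e ▸ hl), Finset.mem_univ _⟩,
          fun hl => ?_⟩
        have hl1 := (Finset.mem_erase.1 hl).1
        obtain ⟨ψ, -, hψ⟩ := Finset.exists_ne_zero_of_sum_ne_zero
          (show ∑ ψ, m ψ * a ψ l ≠ 0 by rw [hone]; norm_num)
        have hψ1 : ψ ≠ oneChar G := fun e => by
          subst e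
          refine hψ (mul_eq_zero_of_right _ ?_)
          have h := ha (oneChar G) l
          simp only [coe_oneChar] at h
          have h' : Cfsg.classInner (fun _ : H => (1 : ℂ)) (l : H → ℂ) = 0 :=
            classInner_irr_ne isIrrCharacter_one l.2 fun e => hl1 (Subtype.ext e.symm)
          rw [h'] at h
          exact_mod_cast h.symm
        have := hall ψ hψ1 fun e => hψ (by rw [e, zero_mul])
        subst this
        simp only [hS, Finset.mem_filter, Finset.mem_univ, true_and]
        exact Nat.pos_of_ne_zero fun e => hψ (by rw [e, mul_zero])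
      have hpos : 0 < Nat.card H := Nat.card_pos
      rw [hd, hSeq, Finset.card_erase_of_mem (Finset.mem_univ _), Finset.card_univ, hirr]
      have h2 : Nat.card H = (Nat.card H - 1) + 1 := by omega
      have h3 : (Nat.card H - 1).Coprime ((Nat.card H - 1) + 1) :=
        Nat.coprime_self_add_right.2 (Nat.coprime_one_right _)
      rwa [← h2] at h3
    · push Not at hall
      obtain ⟨χ', hne', hmne', hχχ'⟩ := hall
      obtain ⟨μ, hμ⟩ : ∃ μ, a χ' μ ≠ 0 := by
        by_contra h
        push Not at h
        have := deg_pos χ'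
        simp [hdeg, h] at this
      have hμS : a χ μ = 0 := (Nat.mul_eq_zero.1
        (huniq χ' χ μ hχχ' (Nat.mul_ne_zero hmne' hμ))).resolve_left hmne
      have hμ1 : μ ≠ oneChar H := fun e => hμ (e ▸ hzero χ' hne' hmne')
      have hμa : a χ' μ = 1 := by
        have := hle χ' μ
        have h2 : 1 * a χ' μ ≤ 1 :=
          (Nat.mul_le_mul_right _ (Nat.pos_of_ne_zero hmne')).trans this
        omega
      have hinv : ∀ (ψ : Cfsg.IrrCharacter G) (z : Subgroup.normalizer (H : Set G))
          (l : Cfsg.IrrCharacter H), a ψ (tw H z l) = a ψ l := by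
        intro ψ z l
        have h := classInner_tw H (IsCharacter.isClassFunction (isCharacter_irr ψ)) z l
        rw [ha, ha] at h
        exact_mod_cast h
      have hsep : ∀ l ∈ S, ∀ z, l ≠ tw H z μ ∧ μ ≠ tw H z l := by
        intro l hl z
        simp only [hS, Finset.mem_filter, Finset.mem_univ, true_and] at hl
        constructor
        · intro e; rw [e, hinv, hμS] at hl; omega
        · intro e
          have := hμS
          rw [e, hinv] at this
          omega
      have hHcard : ∀ l : Cfsg.IrrCharacter H, l ≠ oneChar H →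
          ((Finset.univ : Finset (Subgroup.normalizer (H : Set G))).filter
            fun z => l = tw H z l).card = Nat.card H := by
        intro l hl
        rw [← Fintype.card_subtype, ← Nat.card_eq_fintype_card]
        exact Nat.card_congr
          { toFun := fun z => ⟨(z.1 : G), (tw_fixed_iff H hab hcent l hl z.1).1 z.2.symm⟩
            invFun := fun h => ⟨⟨(h : G), Subgroup.le_normalizer h.2⟩,
              ((tw_fixed_iff H hab hcent l hl ⟨(h : G), Subgroup.le_normalizer h.2⟩).2 h.2).symm⟩
            left_inv := fun z => rfl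
            right_inv := fun h => rfl }
      obtain ⟨l₀, hl₀⟩ := hSne
      have hl₀1 : l₀ ≠ oneChar H := fun e => hS1 (e ▸ hl₀)
      have horbit : ∀ l ∈ S, ∃ z, tw H z l₀ = l := by
        intro l hl
        by_contra hno
        push Not at hno
        have hl1 : l ≠ oneChar H := fun e => hS1 (e ▸ hl)
        -- the coefficients of an induced difference
        have hco : ∀ (k : Cfsg.IrrCharacter H) (ψ : Cfsg.IrrCharacter G),
            Cfsg.classInner (Cfsg.indFun H ((k : H → ℂ) - (μ : H → ℂ))) (ψ : G → ℂ) =
              (a ψ k : ℂ) - a ψ μ := by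
          intro k ψ
          rw [classInner_indFun H _ (IsCharacter.isClassFunction (isCharacter_irr ψ)),
            classInner_sub_left]
          have e : ∀ f : Cfsg.IrrCharacter H, Cfsg.classInner (f : H → ℂ)
              (fun h : H => (ψ : G → ℂ) h) = (a ψ f : ℂ) := fun f => by
            rw [← classInner_conj_symm, ha, map_natCast]
          rw [e, e]
        have hnorm : ∀ k ∈ S, Cfsg.classInner (Cfsg.indFun H ((k : H → ℂ) - (μ : H → ℂ)))
            (Cfsg.indFun H ((k : H → ℂ) - (μ : H → ℂ))) = 2 := by
          intro k hk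
          rw [inner_ind_diff H hab hcent]
          have e : ∀ z, k ≠ tw H z μ ∧ μ ≠ tw H z k := hsep k hk
          simp only [if_neg (e _).1, if_neg (e _).2, sub_zero, zero_sub, sub_neg_eq_add,
            Finset.sum_add_distrib, Finset.sum_boole, hHcard k (fun e1 => hS1 (e1 ▸ hk)),
            hHcard μ hμ1]
          field_simp
          ring
        have hcoef : ∀ k ∈ S, ∀ ψ, (a ψ k : ℤ) - a ψ μ =
            if ψ = χ then 1 else if ψ = χ' then -1 else 0 := by
          intro k hk
          have h := hnorm k hk
          rw [classInner_eq_sum_irr (indFun_isClassFunction H _)] at h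
          have h2 : ∀ ψ : Cfsg.IrrCharacter G,
              Cfsg.classInner (ψ : G → ℂ) (Cfsg.indFun H ((k : H → ℂ) - (μ : H → ℂ))) =
                (a ψ k : ℂ) - a ψ μ := fun ψ => by
            rw [← classInner_conj_symm, hco]; simp
          simp only [hco, h2] at h
          have h3 : ∑ ψ, ((a ψ k : ℤ) - a ψ μ) * ((a ψ k : ℤ) - a ψ μ) = 2 := by exact_mod_cast h
          simp only [hS, Finset.mem_filter, Finset.mem_univ, true_and] at hk
          have hka : a χ k = 1 := by have := ha01 k; simpa [hk] using this
          have hk' : a χ' k = 0 := (Nat.mul_eq_zero.1 (huniq χ χ' k (Ne.symm hχχ')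
            (Nat.mul_ne_zero hmne (by omega)))).resolve_left hmne'
          intro ψ
          split_ifs with e1 e2
          · subst e1; simp [hka, hμS]
          · subst e2; simp [hk', hμa]
          · have h4 := Finset.sum_le_sum_of_subset_of_nonneg
              (f := fun ξ => ((a ξ k : ℤ) - a ξ μ) * ((a ξ k : ℤ) - a ξ μ))
              (Finset.subset_univ ({χ, χ', ψ} : Finset _))
              (fun ξ _ _ => mul_self_nonneg _)
            rw [Finset.sum_insert (by simp [Ne.symm hχχ', Ne.symm e1]),
              Finset.sum_pair (Ne.symm e2), h3, hka, hμS, hk', hμa] at h4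
            have h5 := mul_self_nonneg ((a ψ k : ℤ) - a ψ μ)
            exact mul_self_eq_zero.1 (le_antisymm (by norm_num at h4; linarith) h5)
        have h12 : Cfsg.classInner (Cfsg.indFun H ((l₀ : H → ℂ) - (μ : H → ℂ)))
            (Cfsg.indFun H ((l : H → ℂ) - (μ : H → ℂ))) = 2 := by
          rw [← hnorm l hl]
          congr 1
          refine IsClassFunction.ext_classInner (indFun_isClassFunction H _)
            (indFun_isClassFunction H _) fun ψ hψ => ?_
          lift ψ to Cfsg.IrrCharacter G using hψ
          rw [hco, hco]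
          have := (hcoef l₀ hl₀ ψ).trans (hcoef l hl ψ).symm
          exact_mod_cast this
        rw [inner_ind_diff H hab hcent] at h12
        have e1 : ∀ z, l₀ ≠ tw H z l := by
          intro z e
          refine hno z⁻¹ (Subtype.ext (funext fun h => ?_))
          rw [e, tw_apply, tw_apply]
          refine congrArg _ (Subtype.ext ?_)
          simp [conjHom, mul_assoc]
        simp only [if_neg (e1 _), if_neg (hsep l₀ hl₀ _).1, if_neg (hsep l hl _).2, sub_zero,
          zero_sub, sub_neg_eq_add, zero_add, Finset.sum_boole, hHcard μ hμ1] at h12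
        rw [inv_mul_cancel₀ hH0] at h12
        norm_num at h12
      have himg : S = Finset.univ.image fun z => tw H z l₀ := by
        ext l
        refine ⟨fun hl => Finset.mem_image.2 (by
          obtain ⟨z, hz⟩ := horbit l hl; exact ⟨z, Finset.mem_univ _, hz⟩), fun hl => ?_⟩
        obtain ⟨z, -, rfl⟩ := Finset.mem_image.1 hl
        simp only [hS, Finset.mem_filter, Finset.mem_univ, true_and] at hl₀ ⊢
        rw [hinv]; exact hl₀
      have hN : Nat.card (Subgroup.normalizer (H : Set G)) = S.card * Nat.card H := by
        rw [Nat.card_eq_fintype_card, ← Finset.card_univ,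
          Finset.card_eq_sum_card_image (fun z => tw H z l₀), ← himg,
          Finset.sum_congr rfl (g := fun _ => Nat.card H) fun l hl => ?_, Finset.sum_const,
          smul_eq_mul]
        obtain ⟨z₀, hz₀⟩ := horbit l hl
        rw [← Fintype.card_subtype, ← Nat.card_eq_fintype_card, ← hHcard l₀ hl₀1,
          ← Fintype.card_subtype, ← Nat.card_eq_fintype_card]
        have htw : ∀ z w, tw H (z * w) l₀ = tw H z (tw H w l₀) := fun z w => by
          refine Subtype.ext (funext fun h => ?_)
          rw [tw_apply, tw_apply, tw_apply]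
          refine congrArg _ (Subtype.ext ?_)
          simp [conjHom, mul_assoc]
        have hinj : ∀ w p q, tw H w p = tw H w q → p = q := fun w p q e => by
          refine Subtype.ext (funext fun h => ?_)
          obtain ⟨k, rfl⟩ := conjHom_surjective H w h
          exact congrFun (congrArg (fun f : Cfsg.IrrCharacter H => (f : H → ℂ)) e) k
        exact Nat.card_congr
          { toFun := fun z => ⟨z₀⁻¹ * z.1, (hinj z₀ _ _ (by
              rw [← htw, mul_inv_cancel_left, z.2, hz₀])).symm⟩
            invFun := fun z => ⟨z₀ * z.1, by rw [htw, ← z.2, hz₀]⟩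
            left_inv := fun z => Subtype.ext (mul_inv_cancel_left _ _)
            right_inv := fun z => Subtype.ext (inv_mul_cancel_left _ _) }
      have hdvd : S.card * Nat.card H ∣ Nat.card A * Nat.card H := by
        rw [← hN, hcard]; exact Subgroup.card_subgroup_dvd_card _
      rw [hd]
      exact hcop.coprime_dvd_left (Nat.dvd_of_mul_dvd_mul_right Nat.card_pos hdvd)
  -- Burnside
  have hvan : ∀ χ, χ ≠ oneChar G → m χ ≠ 0 → (χ : G → ℂ) x = 0 := by
    intro χ hne hmne
    refine (eq_zero_or_norm_eq_of_coprime χ x
      (by rw [hidx]; exact (hcopdeg χ hne hmne).symm)).resolve_right fun hnorm => hx1 ?_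
    have hf : ∀ g : G, (χ : G → ℂ) g = (χ : G → ℂ) 1 → g = 1 := by
      intro g hg
      rcases (charKer_normal (isCharacter_irr χ)).eq_bot_or_eq_top with h | h
      · exact Subgroup.mem_bot.1 (h ▸ (mem_charKer (isCharacter_irr χ)).2 hg)
      · exfalso
        have hsum0 := sum_eq_zero χ hne
        have hc : ∀ k : G, (χ : G → ℂ) k = (χ : G → ℂ) 1 := fun k =>
          (mem_charKer (isCharacter_irr χ)).1 (h ▸ Subgroup.mem_top k)
        rw [Finset.sum_congr rfl fun k _ => hc k] at hsum0
        simp [IsIrrCharacter.apply_one_ne_zero χ.2] at hsum0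
    exact Subgroup.mem_bot.1 (hZ ▸ mem_center_of_norm_eq χ hf x hnorm)
  have hπx : π x = 1 := by
    rw [hsum, Finset.sum_eq_single (oneChar G)]
    · simp [hm1]
    · intro χ _ hne
      by_cases h0 : m χ = 0
      · simp [h0]
      · simp [hvan χ hne h0]
    · intro h; exact absurd (Finset.mem_univ _) h
  rw [hπdef, indFun_def] at hπx
  have hcnt : ∑ g : G, Cfsg.extendByZero A (fun _ => (1 : ℂ)) (g⁻¹ * x * g) =
      (Nat.card {g : G // g⁻¹ * x * g ∈ A} : ℂ) := by
    rw [Nat.card_eq_fintype_card, Fintype.card_subtype, ← Finset.sum_boole]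
    refine Finset.sum_congr rfl fun g _ => ?_
    by_cases hg : g⁻¹ * x * g ∈ A <;>
      simp [extendByZero_apply_mem, extendByZero_apply_notMem, hg]
  rw [hcnt] at hπx
  field_simp at hπx
  exact_mod_cast hπx

end CfsgLib.Characterizations.RankThree.Character
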