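import Cfsg.Agent.Lib.Characterizations.RankThree.Basic
import Cfsg.Agent.Lib.Characterizations.RankThree.Character
import Cfsg.Agent.Lib.FrobRealize.Theorem

/-!
# Three centralizer orders with a proper inclusion between two centralizers: impossible
-/

set_option autoImplicit false
set_option linter.unusedSectionVars false
set_option linter.style.haveILetI false

namespace CfsgLib.Characterizations.RankThree.CaseA

open Subgroup CfsgLib.Characterizations.RankThree

/-- Three centralizer orders, the first properly dividing the second. -/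
structure Setup (G : Type*) [Group G] where
  c₁ : ℕ
  c₂ : ℕ
  c₃ : ℕ
  hlt : c₁ < c₂
  hdvd : c₁ ∣ c₂
  h31 : c₃ ≠ c₁
  h32 : c₃ ≠ c₂
  hS : ∀ x : G, x ≠ 1 → cc x = c₁ ∨ cc x = c₂ ∨ cc x = c₃
  ex2 : ∃ x : G, x ≠ 1 ∧ cc x = c₂
  ex3 : ∃ x : G, x ≠ 1 ∧ cc x = c₃

variable {G : Type*} [Group G] [Finite G] [IsSimpleGroup G] (hnc : ¬ IsMulCommutative G)
variable (D : Setup G)

theorem c2_dvd : D.c₂ ∣ Nat.card G := by
  obtain ⟨x, -, h⟩ := D.ex2; exact h ▸ cc_dvd x

theorem c3_dvd : D.c₃ ∣ Nat.card G := by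
  obtain ⟨x, -, h⟩ := D.ex3; exact h ▸ cc_dvd x

/-- Every prime is full in `c₂` or in `c₃`. -/
theorem full (p : ℕ) [hp : Fact p.Prime] :
    p ^ (Nat.card G).factorization p ∣ D.c₂ ∨ p ^ (Nat.card G).factorization p ∣ D.c₃ := by
  by_cases h : p ∣ Nat.card G
  · obtain ⟨z, hz, P, hP⟩ := exists_full (p := p) h
    have hd : p ^ (Nat.card G).factorization p ∣ cc z := by
      rw [← P.card_eq_multiplicity]; exact card_dvd_of_le hP
    rcases D.hS z hz with e | e | e
    · exact Or.inl ((e ▸ hd).trans D.hdvd)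
    · exact Or.inl (e ▸ hd)
    · exact Or.inr (e ▸ hd)
  · rw [Nat.factorization_eq_zero_of_not_dvd h, pow_zero]
    exact Or.inl (one_dvd _)

theorem dvd_of_dvd {m : ℕ} (h2 : D.c₂ ∣ m) (h3 : D.c₃ ∣ m) : Nat.card G ∣ m := by
  refine (Nat.dvd_iff_prime_pow_dvd_dvd _ _).2 fun p k hp hk => ?_
  haveI : Fact p.Prime := ⟨hp⟩
  have hle : p ^ k ∣ p ^ (Nat.card G).factorization p :=
    pow_dvd_pow p ((hp.pow_dvd_iff_le_factorization Nat.card_pos.ne').1 hk)
  rcases full D p with h | h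
  · exact (hle.trans h).trans h2
  · exact (hle.trans h).trans h3

include hnc

theorem not_dvd23 : ¬ D.c₂ ∣ D.c₃ := fun h => by
  obtain ⟨x, hx, hc⟩ := D.ex3
  exact cc_ne_card hnc hx (Nat.dvd_antisymm (cc_dvd x) (hc ▸ dvd_of_dvd D h dvd_rfl))

theorem not_dvd32 : ¬ D.c₃ ∣ D.c₂ := fun h => by
  obtain ⟨x, hx, hc⟩ := D.ex2
  exact cc_ne_card hnc hx (Nat.dvd_antisymm (cc_dvd x) (hc ▸ dvd_of_dvd D dvd_rfl h))

theorem not_dvd31 : ¬ D.c₃ ∣ D.c₁ := fun h => not_dvd32 hnc D (h.trans D.hdvd)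

theorem not_dvd21 : ¬ D.c₂ ∣ D.c₁ := fun h => by
  obtain ⟨x, -, hc⟩ := D.ex2
  have hpos : 0 < D.c₁ := Nat.pos_of_ne_zero fun e => by
    have := (e ▸ D.hdvd : 0 ∣ D.c₂)
    rw [Nat.zero_dvd] at this
    exact (Nat.card_pos (α := cz x)).ne' (hc.trans this)
  have := Nat.le_of_dvd hpos h
  have := D.hlt
  omega

theorem cz_pow2 {x : G} (hc : cc x = D.c₂) {j : ℕ} (hj : x ^ j ≠ 1) : cz x = cz (x ^ j) := by
  have hd := dvd_cc_of_le (cz_le_pow x j)
  rw [hc] at hd
  refine cz_eq_of_le (cz_le_pow x j) ?_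
  rcases D.hS _ hj with e | e | e
  · exact absurd (e ▸ hd) (not_dvd21 hnc D)
  · rw [e, hc]
  · exact absurd (e ▸ hd) (not_dvd23 hnc D)

theorem cz_pow3 {x : G} (hc : cc x = D.c₃) {j : ℕ} (hj : x ^ j ≠ 1) : cz x = cz (x ^ j) := by
  have hd := dvd_cc_of_le (cz_le_pow x j)
  rw [hc] at hd
  refine cz_eq_of_le (cz_le_pow x j) ?_
  rcases D.hS _ hj with e | e | e
  · exact absurd (e ▸ hd) (not_dvd31 hnc D)
  · exact absurd (e ▸ hd) (not_dvd32 hnc D)
  · rw [e, hc]

theorem exists_two : ∃ y q, q.Prime ∧ orderOf y = q ∧ (y : G) ≠ 1 ∧ cc y = D.c₂ := by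
  obtain ⟨x, hx, hc⟩ := D.ex2
  obtain ⟨j, p, hp, -, ho, hne⟩ := exists_prime_pow hx
  exact ⟨x ^ j, p, hp, ho, hne, by rw [cc, ← cz_pow2 hnc D hc hne]; exact hc⟩

theorem exists_three : ∃ w r, r.Prime ∧ orderOf w = r ∧ (w : G) ≠ 1 ∧ cc w = D.c₃ := by
  obtain ⟨x, hx, hc⟩ := D.ex3
  obtain ⟨j, p, hp, -, ho, hne⟩ := exists_prime_pow hx
  exact ⟨x ^ j, p, hp, ho, hne, by rw [cc, ← cz_pow3 hnc D hc hne]; exact hc⟩

omit hnc in
theorem index_coprime {y w : G} (hy : cc y = D.c₂) (hw : cc w = D.c₃) :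
    (cz y).index.Coprime (cz w).index := by
  refine Nat.coprime_of_dvd fun p hp h2 h3 => ?_
  haveI : Fact p.Prime := ⟨hp⟩
  refine Nat.pow_succ_factorization_not_dvd (Nat.card_pos (α := G)).ne' hp ?_
  rw [pow_succ]
  rcases full D p with h | h
  · exact (Nat.mul_dvd_mul (hy ▸ h) h2).trans (dvd_of_eq (cc_mul_index y))
  · exact (Nat.mul_dvd_mul (hw ▸ h) h3).trans (dvd_of_eq (cc_mul_index w))

theorem not_comm {y w : G} (hy1 : y ≠ 1) (hw1 : w ≠ 1) (hy : cc y = D.c₂) (hw : cc w = D.c₃) :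
    ¬ Commute y w := by
  intro hyw
  have hle : normalClosure ({y} : Set G) ≤ cz w := by
    rw [normalClosure, closure_le]
    intro z hz
    obtain ⟨a, ha, hconj⟩ := Group.mem_conjugatesOfSet_iff.1 hz
    rw [Set.mem_singleton_iff] at ha; subst ha
    obtain ⟨g, rfl⟩ := isConj_iff.1 hconj
    obtain ⟨b, hb, c, hc, rfl⟩ := exists_mul_eq (index_coprime D hy hw) g
    have e : b * c * a * (b * c)⁻¹ = b * a * b⁻¹ := by
      have hca : c * a * c⁻¹ = a := by rw [(mem_cz.1 hc).eq, mul_inv_cancel_right]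
      calc b * c * a * (b * c)⁻¹ = b * (c * a * c⁻¹) * b⁻¹ := by group
        _ = _ := by rw [hca]
    rw [e]
    exact mul_mem (mul_mem hb (mem_cz.2 hyw)) (inv_mem hb)
  rcases (normalClosure_normal (s := ({y} : Set G))).eq_bot_or_eq_top with e | e
  · exact hy1 (mem_bot.1 (e ▸ subset_normalClosure (Set.mem_singleton y)))
  · exact cz_ne_top hnc hw1 (top_le_iff.1 (e ▸ hle))

omit hnc in
theorem card_inf {y w : G} (hy : cc y = D.c₂) (hw : cc w = D.c₃) :
    D.c₃ = Nat.card (cz y ⊓ cz w : Subgroup G) * (cz y).index ∧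
      D.c₂ = Nat.card (cz y ⊓ cz w : Subgroup G) * (cz w).index := by
  have hidx : (cz y ⊓ cz w).index = (cz y).index * (cz w).index :=
    le_antisymm index_inf_le (Nat.le_of_dvd (Nat.pos_of_ne_zero index_ne_zero_of_finite)
      ((index_coprime D hy hw).mul_dvd_of_dvd_of_dvd (index_dvd_of_le inf_le_left)
        (index_dvd_of_le inf_le_right)))
  have h := (cz y ⊓ cz w).card_mul_index
  rw [hidx] at h
  have hy' := cc_mul_index y
  have hw' := cc_mul_index w
  rw [hy] at hy'; rw [hw] at hw'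
  constructor
  · refine Nat.eq_of_mul_eq_mul_right (Nat.pos_of_ne_zero (index_ne_zero_of_finite (H := cz w))) ?_
    rw [hw', ← h]; ring
  · refine Nat.eq_of_mul_eq_mul_right (Nat.pos_of_ne_zero (index_ne_zero_of_finite (H := cz y))) ?_
    rw [hy', ← h]; ring

theorem order_eq_of_common {y w e : G} {q r s : ℕ} (hq : q.Prime) (hr : r.Prime) (hs : s.Prime)
    (hyo : orderOf y = q) (hwo : orderOf w = r) (heo : orderOf e = s)
    (hy1 : y ≠ 1) (hw1 : w ≠ 1) (hy : cc y = D.c₂) (hw : cc w = D.c₃)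
    (hey : e ∈ cz y) (hew : e ∈ cz w) : q = s ∧ r = s := by
  have he1 : e ≠ 1 := fun h => hs.ne_one (by rw [← heo, h, orderOf_one])
  have he : cc e = D.c₁ := by
    rcases D.hS e he1 with h | h | h
    · exact h
    · exact absurd (mem_cz.1 hew) (not_comm hnc D he1 hw1 h hw)
    · exact absurd (mem_cz.1 hey).symm (not_comm hnc D hy1 he1 hy h)
  have key : ∀ v : G, v ≠ 1 → e ∈ cz v → (orderOf e).Coprime (orderOf v) → cz e ≤ cz v := by
    intro v _ hev hco
    obtain ⟨l1, l2⟩ := cz_mul_le (mem_cz.1 hev) hco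
    have hd := dvd_cc_of_le l1
    rw [he] at hd
    rcases D.hS _ (mul_ne_one_of_coprime hco he1) with h | h | h
    · rw [← cz_eq_of_le l1 (he.trans h.symm)]; exact l2
    · exact absurd (h ▸ hd) (not_dvd21 hnc D)
    · exact absurd (h ▸ hd) (not_dvd31 hnc D)
  constructor
  · by_contra hne
    have hl := key y hy1 hey (by rw [heo, hyo]; exact (Nat.coprime_primes hs hq).2 (Ne.symm hne))
    exact not_comm hnc D hy1 hw1 hy hw (mem_cz.1 (hl (mem_cz.2 (mem_cz.1 hew).symm))).symm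
  · by_contra hne
    have hl := key w hw1 hew (by rw [heo, hwo]; exact (Nat.coprime_primes hs hr).2 (Ne.symm hne))
    exact not_comm hnc D hy1 hw1 hy hw (mem_cz.1 (hl (mem_cz.2 (mem_cz.1 hey).symm)))

theorem coprime23 : D.c₂.Coprime D.c₃ := by
  obtain ⟨y, q, hq, hyo, hy1, hy⟩ := exists_two hnc D
  obtain ⟨w, r, hr, hwo, hw1, hw⟩ := exists_three hnc D
  refine Nat.coprime_of_dvd fun s hs h2 h3 => ?_
  haveI : Fact s.Prime := ⟨hs⟩
  obtain ⟨i3, i2⟩ := card_inf D hy hw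
  have hsI : s ∣ Nat.card (cz y ⊓ cz w : Subgroup G) := by
    rcases full D s with h | h
    · refine ((hs.dvd_mul.1 (i3 ▸ h3)).resolve_right fun hn => ?_)
      refine Nat.pow_succ_factorization_not_dvd (Nat.card_pos (α := G)).ne' hs ?_
      rw [pow_succ]
      exact (Nat.mul_dvd_mul (hy ▸ h) hn).trans (dvd_of_eq (cc_mul_index y))
    · refine ((hs.dvd_mul.1 (i2 ▸ h2)).resolve_right fun hn => ?_)
      refine Nat.pow_succ_factorization_not_dvd (Nat.card_pos (α := G)).ne' hs ?_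
      rw [pow_succ]
      exact (Nat.mul_dvd_mul (hw ▸ h) hn).trans (dvd_of_eq (cc_mul_index w))
  obtain ⟨e, he⟩ := exists_prime_orderOf_dvd_card' s hsI
  obtain ⟨hqs, hrs⟩ := order_eq_of_common hnc D hq hr hs hyo hwo
    (e := (e : G)) (by rw [Subgroup.orderOf_coe, he]) hy1 hw1 hy hw e.2.1 e.2.2
  -- a conjugate of one lies in a Sylow subgroup centralized by the other
  have key : ∀ u v : G, orderOf u = s → s ^ (Nat.card G).factorization s ∣ cc v →
      ∃ g : G, g * u * g⁻¹ ∈ cz v := by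
    intro u v hu hfull
    obtain ⟨P, hP⟩ := exists_sylow_le s hfull
    have hpu : IsPGroup s (zpowers u) := IsPGroup.of_card (n := 1) (by
      rw [Nat.card_zpowers, hu, pow_one])
    obtain ⟨Q, hQ⟩ := hpu.exists_le_sylow
    obtain ⟨g, hg⟩ := MulAction.exists_smul_eq G Q P
    refine ⟨g, hP (hg ▸ ?_)⟩
    have hu' : u ∈ (Q : Subgroup G) := hQ (mem_zpowers u)
    exact Subgroup.smul_mem_pointwise_smul u (MulAut.conj g) _ hu'
  rcases full D s with h | h
  · obtain ⟨g, hg⟩ := key w y (hwo.trans hrs) (hy ▸ h)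
    exact not_comm hnc D hy1 (conj_ne_one hw1 g) hy ((cc_conj g w).trans hw) (mem_cz.1 hg).symm
  · obtain ⟨g, hg⟩ := key y w (hyo.trans hqs) (hw ▸ h)
    exact not_comm hnc D (conj_ne_one hy1 g) hw1 ((cc_conj g y).trans hy) hw (mem_cz.1 hg)

theorem card_eq : D.c₂ * D.c₃ = Nat.card G :=
  Nat.dvd_antisymm ((coprime23 hnc D).mul_dvd_of_dvd_of_dvd (c2_dvd D) (c3_dvd D))
    (dvd_of_dvd D (Dvd.intro _ rfl) (Dvd.intro_left _ rfl))

theorem type_three {x : G} (hx : x ≠ 1) {p : ℕ} (hp : p.Prime) (hd : p ∣ orderOf x)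
    (hp3 : p ∣ D.c₃) : cc x = D.c₃ := by
  have h := hd.trans (orderOf_dvd_cc x)
  have hnot : ¬ p ∣ D.c₂ := fun h2 => hp.not_dvd_one (coprime23 hnc D ▸ Nat.dvd_gcd h2 hp3)
  rcases D.hS x hx with e | e | e
  · exact absurd ((e ▸ h).trans D.hdvd) hnot
  · exact absurd (e ▸ h) hnot
  · exact e

theorem cz_w {w : G} {r : ℕ} (hr : r.Prime) (hwo : orderOf w = r) (hw1 : w ≠ 1)
    (hw : cc w = D.c₃) : ∀ h ∈ cz w, h ≠ 1 → cz h = cz w := by
  have ht : ∀ h ∈ cz w, h ≠ 1 → cc h = D.c₃ := by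
    intro h hh h1
    obtain ⟨j, p, hp, hd, -, -⟩ := exists_prime_pow h1
    exact type_three hnc D h1 hp hd
      ((hd.trans (orderOf_dvd_natCard _ hh)).trans (dvd_of_eq hw))
  have key : ∀ a b : G, a ≠ 1 → b ≠ 1 → cc a = D.c₃ → Commute a b → cc b = D.c₃ →
      a ∈ cz w → b ∈ cz w → (orderOf a).Coprime (orderOf b) → cz a = cz b := by
    intro a b ha hb hca hab hcb haw hbw hco
    obtain ⟨l1, l2⟩ := cz_mul_le hab hco
    have hc := ht _ (mul_mem haw hbw) (mul_ne_one_of_coprime hco ha)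
    rw [← cz_eq_of_le l1 (hca.trans hc.symm), cz_eq_of_le l2 (hcb.trans hc.symm)]
  have hcop : ∀ h ∈ cz w, h ≠ 1 → ¬ r ∣ orderOf h → cz h = cz w := fun h hh h1 hn =>
    key h w h1 hw1 (ht h hh h1) (mem_cz.1 hh) hw hh (self_mem w)
      (by rw [hwo]; exact ((hr.coprime_iff_not_dvd).2 hn).symm)
  obtain ⟨y, q, hq, hyo, hy1, hy⟩ := exists_two hnc D
  obtain ⟨h0, hh0, h01, r', hr', hne, ho⟩ : ∃ h0 ∈ cz w, h0 ≠ 1 ∧ ∃ r' : ℕ, r'.Prime ∧ r' ≠ r ∧
      orderOf h0 = r' := by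
    by_contra hno
    push Not at hno
    have hpos : D.c₃ ≠ 0 := hw ▸ (Nat.card_pos (α := cz w)).ne'
    have hpow : D.c₃ = r ^ D.c₃.primeFactorsList.length :=
      Nat.eq_prime_pow_of_unique_prime_dvd hpos fun {d} hd hdd => by
        by_contra hne
        haveI : Fact d.Prime := ⟨hd⟩
        obtain ⟨e, he⟩ := exists_prime_orderOf_dvd_card' (G := cz w) d (hdd.trans (dvd_of_eq hw.symm))
        refine hno e e.2 (fun e1 => ?_) d hd hne (by rw [Subgroup.orderOf_coe, he])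
        rw [← Subgroup.orderOf_coe, e1, orderOf_one] at he
        exact hd.ne_one he.symm
    refine index_ne_prime_pow hnc hy1 (k := D.c₃.primeFactorsList.length) hr ?_
    rw [← hpow]
    have h := cc_mul_index y
    rw [hy, ← card_eq hnc D] at h
    exact Nat.eq_of_mul_eq_mul_left (hy ▸ (Nat.card_pos (α := cz y))) h
  haveI : Fact r.Prime := ⟨hr⟩
  have h0w : cz h0 = cz w :=
    hcop h0 hh0 h01 (fun hd => hne ((Nat.prime_dvd_prime_iff_eq hr hr').1 (ho ▸ hd)).symm)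
  intro h hh h1
  by_cases hd : r ∣ orderOf h
  · set g := h ^ (orderOf h / r) with hg
    have hgo : orderOf g = r := orderOf_pow_orderOf_div (orderOf_pos h).ne' hd
    have hg1 : g ≠ 1 := fun e => hr.ne_one (by rw [← hgo, e, orderOf_one])
    have hgw : g ∈ cz w := (cz w).pow_mem hh _
    have hhg : cz h = cz g := cz_pow3 hnc D (ht h hh h1) hg1
    rw [hhg, ← h0w]
    refine key g h0 hg1 h01 (ht g hgw hg1) ?_ (ht h0 hh0 h01) hgw hh0
      (by rw [hgo, ho]; exact (Nat.coprime_primes hr hr').2 hne.symm)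
    exact mem_cz.1 (h0w.symm ▸ hgw)
  · exact hcop h hh h1 hd

include D in
theorem absurd_setup : False := by
  cases nonempty_fintype G
  obtain ⟨y, q, hq, hyo, hy1, hy⟩ := exists_two hnc D
  obtain ⟨w, r, hr, hwo, hw1, hw⟩ := exists_three hnc D
  haveI : Fintype (cz w) := Fintype.ofFinite _
  have hH := cz_w hnc D hr hwo hw1 hw
  have hHab : ∀ a b : cz w, a * b = b * a := fun a b => Subtype.ext (by
    rcases eq_or_ne (b : G) 1 with e | hb
    · simp [e]
    · exact mem_cz.1 ((hH b b.2 hb).symm ▸ a.2 : (a : G) ∈ cz (b : G)))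
  have hfix : ∀ x g : G, x ≠ 1 → cc x = D.c₂ → x ∈ cz y → g⁻¹ * x * g ∈ cz y → g ∈ cz y := by
    intro x g hx1 hx hxy hg
    have hidx : (centralizer ({x} : Set G)).index = Nat.card (cz w) := by
      change (cz x).index = cc w
      have h := cc_mul_index x
      rw [hx, ← card_eq hnc D, ← hw] at h
      exact Nat.eq_of_mul_eq_mul_left (hy ▸ (Nat.card_pos (α := cz y))) h
    have hcard := Character.card_fixed (cz w) (cz y)
      (by change (cc y).Coprime (cc w); rw [hy, hw]; exact coprime23 hnc D)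
      (by change cc y * cc w = _; rw [hy, hw]; exact card_eq hnc D) hHab
      (fun h hh h1 => hH h hh h1) (center_bot hnc) hx1 hidx
    let f : cz y → {g : G // g⁻¹ * x * g ∈ cz y} := fun a =>
      ⟨a, mul_mem (mul_mem (inv_mem a.2) hxy) a.2⟩
    have hf : Function.Injective f := fun a b e =>
      Subtype.ext (congrArg (fun z : {g : G // g⁻¹ * x * g ∈ cz y} => z.1) e)
    obtain ⟨a, ha⟩ := ((Nat.bijective_iff_injective_and_card f).2 ⟨hf, hcard.symm⟩).2 ⟨g, hg⟩
    have e : (a : G) = g := congrArg (fun z : {g : G // g⁻¹ * x * g ∈ cz y} => z.1) ha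
    rw [← e]; exact a.2
  -- commuting conjugates of `y` are equal
  have hcomm : ∀ g : G, Commute (g * y * g⁻¹) y → g * y * g⁻¹ = y := by
    intro g h
    have := hfix (g * y * g⁻¹) g (conj_ne_one hy1 g) ((cc_conj g y).trans hy) (mem_cz.2 h)
      (by simpa [mul_assoc] using self_mem y)
    rw [(mem_cz.1 this).eq, mul_inv_cancel_right]
  haveI : Fact q.Prime := ⟨hq⟩
  have hqfull : q ^ (Nat.card G).factorization q ∣ cc y := by
    rcases full D q with h | h
    · exact hy ▸ h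
    · have hq2 : q ∣ D.c₂ := (dvd_of_eq hyo.symm).trans (hy ▸ orderOf_dvd_cc y)
      rcases Nat.eq_zero_or_pos ((Nat.card G).factorization q) with e | e
      · rw [e, pow_zero]; exact one_dvd _
      · exact absurd (coprime23 hnc D ▸ Nat.dvd_gcd hq2 ((dvd_pow_self q e.ne').trans h))
          hq.not_dvd_one
  have hti : ∀ g : G, g ∉ cz y → ∀ x ∈ cz y, g⁻¹ * x * g ∈ cz y → x = 1 := by
    intro g hg x hxy hxg
    by_contra hx1
    set y' := g * y * g⁻¹ with hy'
    have hne : y' ≠ y := fun e => hg (mem_cz.2 (by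
      calc g * y = g * y * g⁻¹ * g := by group
        _ = y * g := by rw [show g * y * g⁻¹ = y from e]))
    have hxy' : x ∈ cz y' := mem_cz_conj.2 hxg
    obtain ⟨j, p, hp, -, ho, hz1⟩ := exists_prime_pow hx1
    set z := x ^ j
    have hzy : z ∈ cz y := (cz y).pow_mem hxy j
    have hzy' : z ∈ cz y' := (cz y').pow_mem hxy' j
    have hz : cc z = D.c₁ := by
      rcases D.hS z hz1 with e | e | e
      · exact e
      · exact absurd (hfix z g hz1 e hzy (mem_cz_conj.1 hzy')) hg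
      · exact absurd (mem_cz.1 hzy).symm (not_comm hnc D hy1 hz1 hy e)
    have key : ∀ v, v ∈ cz z → (orderOf z).Coprime (orderOf v) → cz z ≤ cz v := by
      intro v hv hco
      obtain ⟨l1, l2⟩ := cz_mul_le (mem_cz.1 hv).symm hco
      have hd := dvd_cc_of_le l1
      rw [hz] at hd
      rcases D.hS _ (mul_ne_one_of_coprime hco hz1) with h | h | h
      · rw [← cz_eq_of_le l1 (hz.trans h.symm)]; exact l2
      · exact absurd (h ▸ hd) (not_dvd21 hnc D)
      · exact absurd (h ▸ hd) (not_dvd31 hnc D)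
    have hyz : y ∈ cz z := mem_cz.2 (mem_cz.1 hzy).symm
    have hy'z : y' ∈ cz z := mem_cz.2 (mem_cz.1 hzy').symm
    rcases ne_or_eq p q with hpq | rfl
    · have hl := key y hyz (by rw [ho, hyo]; exact (Nat.coprime_primes hp hq).2 hpq)
      exact hne (hcomm g (mem_cz.1 (hl hy'z)))
    haveI hnil : Group.IsNilpotent (cz z) := isNilpotent_of_central p fun u hu =>
      mem_center_iff.2 fun v => Subtype.ext (mem_cz.1 (key u u.2 (by
        rw [ho, Subgroup.orderOf_coe]; exact (hp.coprime_iff_not_dvd).2 hu) v.2))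
    obtain ⟨Q⟩ := (inferInstance : Nonempty (Sylow p (cz z)))
    haveI hQn : (Q : Subgroup (cz z)).Normal := by
      have hall : ∀ (l : ℕ) (_hl : Fact l.Prime) (R : Sylow l (cz z)), (↑R : Subgroup (cz z)).Normal :=
        Iff.mp (Group.isNilpotent_of_finite_tfae.out 0 3) hnil
      exact hall p inferInstance Q
    have hmemQ : ∀ (v : G) (hv : v ∈ cz z), orderOf v = p → (⟨v, hv⟩ : cz z) ∈ (Q : Subgroup _) := by
      intro v hv hvo
      have hpg : IsPGroup p (zpowers (⟨v, hv⟩ : cz z)) := IsPGroup.of_card (n := 1) (by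
        rw [Nat.card_zpowers, Subgroup.orderOf_mk, hvo, pow_one])
      obtain ⟨R, hR⟩ := hpg.exists_le_sylow
      haveI := Sylow.unique_of_normal Q hQn
      rw [Subsingleton.elim Q R]
      exact hR (mem_zpowers _)
    obtain ⟨P, hP⟩ := (Q.2.map (cz z).subtype).exists_le_sylow
    have hyP : y ∈ (P : Subgroup G) := hP ⟨⟨y, hyz⟩, hmemQ y hyz hyo, rfl⟩
    have hy'P : y' ∈ (P : Subgroup G) := hP ⟨⟨y', hy'z⟩, hmemQ y' hy'z (by
      rw [← hyo, hy']; exact (MulAut.conj g).orderOf_eq y), rfl⟩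
    obtain ⟨P₀, hP₀⟩ := exists_sylow_le p hqfull
    obtain ⟨k, hk⟩ := MulAction.exists_smul_eq G P₀ P
    have hPle : ∀ v ∈ (P : Subgroup G), Commute v (k * y * k⁻¹) := by
      intro v hv
      rw [← hk] at hv
      obtain ⟨u, hu, rfl⟩ := hv
      refine mem_cz.1 (mem_cz_conj.2 ?_)
      simpa [MulAut.conj_apply, mul_assoc] using hP₀ hu
    have hk1 : k * y * k⁻¹ = y := hcomm k (hPle y hyP).symm
    have := hPle y' hy'P
    rw [hk1] at this
    exact hne (hcomm g this)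
  have hFC : Cfsg.IsFrobeniusComplement (cz y) := by
    refine ⟨fun e => hy1 (mem_bot.1 (e ▸ self_mem y)), cz_ne_top hnc hy1, fun g hg => ?_⟩
    refine (eq_bot_iff_forall _).2 fun x hx => ?_
    obtain ⟨h1, h2⟩ := mem_inf.1 hx
    exact hti g hg x h1 (CfsgLib.FrobRealize.Kernel.mem_conj_smul.1 h2)
  obtain ⟨N, -, hN, hcompl⟩ := CfsgLib.FrobRealize.exists_normal_kernel hFC
  rcases hN.eq_bot_or_eq_top with e | e
  · rw [e] at hcompl; exact hFC.2.1 (isComplement'_bot_left.1 hcompl)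
  · rw [e] at hcompl; exact hFC.1 (isComplement'_top_left.1 hcompl)

end CfsgLib.Characterizations.RankThree.CaseA
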