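import Cfsg.Agent.Lib.Characterizations.RankThree.Basic
import Cfsg.Agent.Lib.Recognition.AbelianCentraliser.Main
import Cfsg.Agent.Lib.OddOrder.CNTheorem

/-!
# Simple groups without proper inclusions between centralizers
-/

set_option autoImplicit false
set_option linter.unusedSectionVars false
set_option linter.style.haveILetI false

namespace CfsgLib.Characterizations.RankThree.CaseB

open Subgroup CfsgLib.Characterizations.RankThree

variable {G : Type*} [Group G] [Finite G]
variable (hB : ∀ a b : G, a ≠ 1 → b ≠ 1 → cz a ≤ cz b → cz a = cz b)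

include hB

theorem cz_pow {x : G} (hx : x ≠ 1) {j : ℕ} (hj : x ^ j ≠ 1) : cz x = cz (x ^ j) :=
  hB _ _ hx hj (cz_le_pow x j)

theorem cz_eq {a b : G} (hab : Commute a b) (hco : (orderOf a).Coprime (orderOf b)) (ha : a ≠ 1)
    (hb : b ≠ 1) : cz a = cz b := by
  obtain ⟨h1, h2⟩ := cz_mul_le hab hco
  have hne := mul_ne_one_of_coprime hco ha
  rw [← hB _ _ hne ha h1, hB _ _ hne hb h2]

omit hB in
theorem exists_involution_pow {P : Subgroup G} (hP : IsPGroup 2 P) {x : G} (hxP : x ∈ P)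
    (hx : x ≠ 1) : ∃ j, orderOf (x ^ j) = 2 ∧ x ^ j ≠ 1 ∧ x ^ j ∈ P := by
  obtain ⟨k, hk⟩ := (IsPGroup.iff_orderOf).1 hP ⟨x, hxP⟩
  rw [Subgroup.orderOf_mk] at hk
  obtain ⟨j, p, hp, hd, ho, hne⟩ := exists_prime_pow hx
  have : p = 2 := (Nat.prime_dvd_prime_iff_eq hp Nat.prime_two).1 (hp.dvd_of_dvd_pow (hk ▸ hd))
  exact ⟨j, this ▸ ho, hne, P.pow_mem hxP j⟩

theorem sylow_comm (P : Sylow 2 G) : ∀ a ∈ (P : Subgroup G), ∀ b ∈ (P : Subgroup G), Commute a b := by
  haveI : Fact (Nat.Prime 2) := ⟨Nat.prime_two⟩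
  by_contra hno
  push Not at hno
  obtain ⟨a, ha, b, hb, hab⟩ := hno
  set S := (P : Subgroup G) with hS
  have hne : center S ≠ ⊤ := fun h => by
    have hc : (⟨b, hb⟩ : S) ∈ center S := by rw [h]; exact mem_top _
    exact hab (congrArg Subtype.val (mem_center_iff.1 hc ⟨a, ha⟩))
  haveI : Nontrivial (S ⧸ center S) := by
    rw [← Finite.one_lt_card_iff_nontrivial]
    have h1 : (center S).index ≠ 1 := fun h => hne (index_eq_one.1 h)
    have h0 : (center S).index ≠ 0 := index_ne_zero_of_finite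
    change 1 < (center S).index
    omega
  haveI := (P.2.to_quotient (center S)).center_nontrivial
  obtain ⟨q, hq⟩ := exists_ne (1 : center (S ⧸ center S))
  obtain ⟨x, hxq⟩ := QuotientGroup.mk'_surjective (center S) (q : S ⧸ center S)
  have hxZ : x ∉ center S := fun h => hq (Subtype.ext (by
    rw [← hxq, QuotientGroup.mk'_apply, (QuotientGroup.eq_one_iff x).2 h]; rfl))
  have hcz : ∀ y : S, y ∈ center S ↔ S ≤ cz (y : G) := fun y => by
    rw [mem_center_iff]
    exact ⟨fun h g hg => mem_cz.2 (congrArg Subtype.val (h ⟨g, hg⟩)),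
      fun h g => Subtype.ext (mem_cz.1 (h g.2))⟩
  have hx1 : (x : G) ≠ 1 := fun e => hxZ (by rw [show x = 1 from Subtype.ext e]; exact one_mem _)
  obtain ⟨i, hio, hi1, hiS⟩ := exists_involution_pow P.2 x.2 hx1
  set j : S := ⟨(x : G) ^ i, hiS⟩ with hj
  have hjZ : j ∉ center S := fun h => hxZ ((hcz x).2 (cz_pow hB hx1 hi1 ▸ (hcz j).1 h))
  have hj2 : ∀ s : S, j * s * (s * j)⁻¹ ∈ center S := fun s => by
    rw [← QuotientGroup.eq_one_iff, QuotientGroup.mk_mul, QuotientGroup.mk_mul, QuotientGroup.mk_inv,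
      QuotientGroup.mk_mul, mul_inv_eq_one]
    have hpow : j = x ^ i := Subtype.ext rfl
    have hqx : (QuotientGroup.mk (x ^ i) : S ⧸ center S) = (q : S ⧸ center S) ^ i := by
      rw [QuotientGroup.mk_pow, ← hxq]; rfl
    rw [hpow, hqx]
    exact ((mem_center_iff.1 (pow_mem q.2 i)) _).symm
  obtain ⟨s, hs⟩ : ∃ s : S, ¬ Commute j s := by
    by_contra h
    push Not at h
    exact hjZ (mem_center_iff.2 fun g => (h g).symm)
  have hs1 : (s : G) ≠ 1 := fun e => hs (by
    rw [show s = 1 from Subtype.ext e]; exact Commute.one_right _)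
  obtain ⟨k, hko, hk1, hkS⟩ := exists_involution_pow P.2 s.2 hs1
  set u : S := ⟨(s : G) ^ k, hkS⟩ with hu
  have hju : ¬ Commute j u := fun h => by
    have h1 : (j : G) ∈ cz (u : G) := mem_cz.2 (congrArg Subtype.val h)
    rw [show (u : G) = (s : G) ^ k from rfl, ← cz_pow hB hs1 hk1] at h1
    exact hs (Subtype.ext (mem_cz.1 h1))
  have hjj : (j : G) * j = 1 := by
    have := pow_orderOf_eq_one ((x : G) ^ i)
    rwa [hio, pow_two] at this
  have huu : (u : G) * u = 1 := by
    have := pow_orderOf_eq_one ((s : G) ^ k)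
    rwa [hko, pow_two] at this
  have hji : j * u * (u * j)⁻¹ = (j * u) ^ 2 := Subtype.ext (by
    rw [pow_two]
    simp only [Subgroup.coe_mul, Subgroup.coe_inv, mul_inv_rev]
    rw [inv_eq_of_mul_eq_one_right hjj, inv_eq_of_mul_eq_one_right huu])
  have hz := hj2 u
  rw [hji] at hz
  have hw1 : ((j * u : S) : G) ≠ 1 := fun e => hju (by
    have e' : j * u = 1 := Subtype.ext e
    rw [eq_inv_of_mul_eq_one_left e']
    exact (Commute.refl u).inv_left)
  have hw2 : ((j * u : S) : G) ^ 2 ≠ 1 := fun e => hju (by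
    have e' : j * u * (u * j)⁻¹ = 1 := by rw [hji]; exact Subtype.ext (by simpa using e)
    exact mul_inv_eq_one.1 e')
  have hwZ : j * u ∈ center S := (hcz _).2 (cz_pow hB hw1 hw2 ▸ (by
    simpa using (hcz _).1 hz))
  have := mem_center_iff.1 hwZ j
  exact hju (mul_left_cancel (a := j) (by rw [this, mul_assoc]))

/-- Every involution centralizer is abelian. -/
theorem ac : CfsgLib.Recognition.AbelianCentraliser.AC G := by
  haveI : Fact (Nat.Prime 2) := ⟨Nat.prime_two⟩
  intro t ht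
  have ht1 : t ≠ 1 := fun e => by rw [e, orderOf_one] at ht; omega
  change IsMulCommutative (cz t)
  by_cases hodd : ∃ h ∈ cz t, h ≠ 1 ∧ ¬ 2 ∣ orderOf h
  · obtain ⟨h, hh, hh1, hho⟩ := hodd
    have hco : ∀ {u v : G}, ¬ 2 ∣ orderOf u → orderOf v = 2 → (orderOf u).Coprime (orderOf v) :=
      fun hu hv => by rw [hv]; exact ((Nat.prime_two.coprime_iff_not_dvd).2 hu).symm
    have hth : cz h = cz t := cz_eq hB (mem_cz.1 hh) (hco hho ht) hh1 ht1
    have hall : ∀ u ∈ cz t, u ≠ 1 → cz u = cz t := by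
      intro u hu hu1
      by_cases hu2 : 2 ∣ orderOf u
      · have ho : orderOf (u ^ (orderOf u / 2)) = 2 :=
          orderOf_pow_orderOf_div (orderOf_pos u).ne' hu2
        have hv1 : u ^ (orderOf u / 2) ≠ 1 := fun e => by rw [e, orderOf_one] at ho; omega
        have hm : h ∈ cz (u ^ (orderOf u / 2)) := by
          have : u ^ (orderOf u / 2) ∈ cz h := hth ▸ (cz t).pow_mem hu _
          exact mem_cz.2 (mem_cz.1 this).symm
        rw [cz_pow hB hu1 hv1, ← cz_eq hB (mem_cz.1 hm) (hco hho ho) hh1 hv1, hth]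
      · exact cz_eq hB (mem_cz.1 hu) (hco hu2 ht) hu1 ht1
    refine ⟨⟨fun a b => Subtype.ext ?_⟩⟩
    rcases eq_or_ne (b : G) 1 with e | hb1
    · simp [e]
    · exact mem_cz.1 ((hall b b.2 hb1).symm ▸ a.2 : (a : G) ∈ cz (b : G))
  · push Not at hodd
    have hP : IsPGroup 2 (cz t) := by
      refine IsPGroup.iff_orderOf.2 fun g => ⟨(orderOf g).factorization 2, ?_⟩
      set m := (orderOf g).factorization 2
      have h1 : orderOf (g ^ (2 ^ m)) = orderOf g / 2 ^ m := by
        rw [orderOf_pow' g (pow_ne_zero _ two_ne_zero), Nat.gcd_eq_right (Nat.ordProj_dvd _ _)]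
      have h2 : ((g ^ 2 ^ m : cz t) : G) = 1 := by
        by_contra hne
        have := hodd _ (g ^ 2 ^ m).2 hne
        rw [Subgroup.orderOf_coe, h1] at this
        exact Nat.not_dvd_ordCompl Nat.prime_two (orderOf_pos g).ne' this
      rw [show g ^ 2 ^ m = 1 from Subtype.ext h2, orderOf_one] at h1
      exact (Nat.eq_of_dvd_of_div_eq_one (Nat.ordProj_dvd _ _) h1.symm).symm
    obtain ⟨P, hle⟩ := hP.exists_le_sylow
    exact ⟨⟨fun a b => Subtype.ext (sylow_comm hB P _ (hle a.2) _ (hle b.2))⟩⟩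

theorem isCN : Cfsg.IsCNGroup G := by
  intro g hg
  change Group.IsNilpotent (cz g)
  obtain ⟨j, p, hp, -, ho, hne⟩ := exists_prime_pow hg
  haveI : Fact p.Prime := ⟨hp⟩
  rw [cz_pow hB hg hne]
  set x := g ^ j
  refine isNilpotent_of_central p fun u hu => mem_center_iff.2 fun v => Subtype.ext ?_
  rcases eq_or_ne (u : G) 1 with e | hu1
  · simp [e]
  · refine mem_cz.1 ?_
    rw [cz_eq hB (mem_cz.1 u.2) (by
      rw [ho, Subgroup.orderOf_coe]; exact ((hp.coprime_iff_not_dvd).2 hu).symm) hu1 hne]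
    exact v.2

variable [IsSimpleGroup G] (hnc : ¬ IsMulCommutative G)

include hnc

theorem exists_psl :
    ∃ (F : Type) (_ : Field F) (_ : Fintype F), CharP F 2 ∧
      Nonempty (G ≃* Matrix.SpecialLinearGroup (Fin 2) F) := by
  haveI : Fact (Nat.Prime 2) := ⟨Nat.prime_two⟩
  have heven : 2 ∣ Nat.card G := by
    by_contra h
    exact not_solvable hnc (CfsgLib.OddOrder.CNTheorem.isSolvable
      (Nat.odd_iff.2 (by omega)) (isCN hB))
  obtain ⟨P⟩ := (inferInstance : Nonempty (Sylow 2 G))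
  have hP1 : (P : Subgroup G) ≠ ⊥ := P.ne_bot_of_dvd_card heven
  have hPn : ¬ (P : Subgroup G).Normal := fun h => by
    rcases h.eq_bot_or_eq_top with e | e
    · exact hP1 e
    · refine not_solvable hnc ?_
      haveI : Group.IsNilpotent G :=
        ((e ▸ P.2 : IsPGroup 2 (⊤ : Subgroup G)).of_equiv Subgroup.topEquiv).isNilpotent
      infer_instance
  have hPc : ¬ IsCyclic (P : Subgroup G) := fun hc => by
    haveI := hc
    have hmin : (Nat.card G).minFac = 2 := (Nat.minFac_eq_two_iff _).2 heven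
    have hle := IsCyclic.normalizer_le_centralizer hmin hc
    have hcompl := MonoidHom.ker_transferSylow_isComplement' P hle
    rcases (inferInstance : (MonoidHom.transferSylow P hle).ker.Normal).eq_bot_or_eq_top with e | e
    · rw [e] at hcompl
      exact hPn (by rw [(isComplement'_bot_left).1 hcompl]; infer_instance)
    · rw [e] at hcompl
      exact hP1 ((isComplement'_top_left).1 hcompl)
  obtain ⟨F, _, _, A, _, _, hF, -, ⟨e⟩⟩ :=
    CfsgLib.Recognition.AbelianCentraliser.structure_of_noncyclic (ac hB) P hPc hPn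
  let f : G →* A := (MonoidHom.snd _ _).comp e.toMonoidHom
  have hA : Subsingleton A := by
    rcases (inferInstance : f.ker.Normal).eq_bot_or_eq_top with h | h
    · exfalso
      refine hnc ⟨⟨fun a b => (MonoidHom.ker_eq_bot_iff f).1 h ?_⟩⟩
      rw [map_mul, map_mul, mul_comm]
    · refine ⟨fun a b => ?_⟩
      have hall : ∀ a : A, a = 1 := fun a => by
        have : e.symm (1, a) ∈ f.ker := h ▸ mem_top _
        have h2 := MonoidHom.mem_ker.1 this; simpa [f] using h2
      rw [hall a, hall b]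
  haveI : Unique A := uniqueOfSubsingleton 1
  exact ⟨F, inferInstance, inferInstance, hF, ⟨e.trans MulEquiv.prodUnique⟩⟩

end CfsgLib.Characterizations.RankThree.CaseB
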