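import Cfsg.Agent.Lib.Characterizations.RankThree.Basic
import Cfsg.Agent.Lib.Recognition.CAGroup.Main
import Cfsg.Agent.Lib.Classical.SL2Tori

/-!
# Centralizer orders in `SL₂` of characteristic two
-/

set_option autoImplicit false
set_option linter.unusedSectionVars false
set_option linter.style.haveILetI false

open scoped MatrixGroups

namespace CfsgLib.Characterizations.RankThree.Converse

open Subgroup CfsgLib.Characterizations.RankThree CfsgLib.Classical

variable {F : Type*} [Field F] [Fintype F] [CharP F 2]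

/-- Commuting with an involution forces exponent two. -/
theorem sq_eq_one_of_comm {j h : SL(2, F)} (hj : j * j = 1) (hj1 : j ≠ 1) (hjh : Commute h j) :
    h * h = 1 := by
  haveI : Fact (Nat.Prime 2) := ⟨Nat.prime_two⟩
  have h2 : (2 : F) = 0 := CharTwo.two_eq_zero
  have e := congrArg Subtype.val hjh.eq
  have ej := congrArg Subtype.val hj
  change (h.1 * j.1) = (j.1 * h.1) at e
  change (j.1 * j.1) = (1 : Matrix (Fin 2) (Fin 2) F) at ej
  have h00 := congrFun (congrFun e 0) 0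
  have h01 := congrFun (congrFun e 0) 1
  have h10 := congrFun (congrFun e 1) 0
  have j00 := congrFun (congrFun ej 0) 0
  have j11 := congrFun (congrFun ej 1) 1
  simp only [Matrix.mul_apply, Fin.sum_univ_two, Matrix.one_apply_eq] at h00 h01 h10 j00 j11
  have hjd := j.2
  have hhd := h.2
  rw [Matrix.det_fin_two] at hjd hhd
  have htr : j.1 0 0 = j.1 1 1 := by
    have : (j.1 0 0 - j.1 1 1) * (j.1 0 0 - j.1 1 1) = 0 := by
      linear_combination j00 + j11 - 2 * hjd - 2 * (j.1 0 1 * j.1 1 0) * h2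
    exact sub_eq_zero.1 (mul_self_eq_zero.1 this)
  have hd : h.1 0 0 = h.1 1 1 := by
    by_contra hne
    have hne' : h.1 0 0 - h.1 1 1 ≠ 0 := sub_ne_zero.2 hne
    have hb : j.1 0 1 = 0 := (mul_eq_zero.1 (show (h.1 0 0 - h.1 1 1) * j.1 0 1 = 0 by
      linear_combination h01 + h.1 0 1 * htr)).resolve_left hne'
    have hc : j.1 1 0 = 0 := (mul_eq_zero.1 (show (h.1 0 0 - h.1 1 1) * j.1 1 0 = 0 by
      linear_combination -h10 + h.1 1 0 * htr)).resolve_left hne'
    apply hj1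
    have hone : j.1 0 0 = 1 := by
      have : (j.1 0 0 - 1) * (j.1 0 0 - 1) = 0 := by
        linear_combination j00 - (j.1 0 0 - 1) * h2 - j.1 1 0 * hb
      exact sub_eq_zero.1 (mul_self_eq_zero.1 this)
    refine Subtype.ext ?_
    ext a b
    fin_cases a <;> fin_cases b <;> simp [hb, hc, hone, ← htr]
  have hdet : ((h.1 : Matrix (Fin 2) (Fin 2) F) - 1).det = 0 := by
    rw [Matrix.det_fin_two]
    simp
    linear_combination hhd + (1 - h.1 0 0) * h2 + hd
  have := sl2_pow_char 2 h hdet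
  rwa [pow_two] at this

theorem orderOf_cases (g : SL(2, F)) :
    g * g = 1 ∨ orderOf g ∣ Fintype.card F - 1 ∨ orderOf g ∣ Fintype.card F + 1 := by
  haveI : Fact (Nat.Prime 2) := ⟨Nat.prime_two⟩
  by_cases h : 2 ∣ orderOf g
  · left
    have ho : orderOf (g ^ (orderOf g / 2)) = 2 := orderOf_pow_orderOf_div (orderOf_pos g).ne' h
    refine sq_eq_one_of_comm (j := g ^ (orderOf g / 2)) ?_ ?_ (Commute.self_pow g _)
    · have := pow_orderOf_eq_one (g ^ (orderOf g / 2))
      rwa [ho, pow_two] at this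
    · intro e; rw [e, orderOf_one] at ho; omega
  · exact Or.inr (sl2_order_dvd 2 g ((Nat.prime_two.coprime_iff_not_dvd.2 h).symm))

omit [Fintype F] in
theorem cz_eq_of_comm {a b : SL(2, F)} (ha : a ≠ 1) (hb : b ≠ 1) (hab : Commute a b) :
    cz a = cz b := by
  have hca := CfsgLib.Recognition.CAGroup.ca_sl (F := F)
  ext z
  rcases eq_or_ne z 1 with rfl | hz
  · simp
  · exact ⟨fun h => mem_cz.2 (hca z a b hz ha hb (mem_cz.1 h) hab),
      fun h => mem_cz.2 (hca z b a hz hb ha (mem_cz.1 h) hab.symm)⟩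

theorem card_facts {m : ℕ} (hm : 1 ≤ m) (hF : Fintype.card F = 2 ^ m) :
    ¬ 2 ∣ Fintype.card F - 1 ∧ ¬ 2 ∣ Fintype.card F + 1 ∧
      (Fintype.card F - 1).Coprime (Fintype.card F + 1) := by
  have h2 : 2 ∣ Fintype.card F := hF ▸ dvd_pow_self 2 (by omega)
  have h1 : 1 < Fintype.card F := Fintype.one_lt_card
  refine ⟨by omega, by omega, ?_⟩
  refine Nat.coprime_of_dvd fun p hp hp1 hp2 => ?_
  have hd := Nat.dvd_sub hp2 hp1
  rw [show Fintype.card F + 1 - (Fintype.card F - 1) = 2 by omega] at hd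
  obtain rfl := (Nat.prime_dvd_prime_iff_eq hp Nat.prime_two).1 hd
  omega

variable {m : ℕ}

/-- Each centralizer order divides one of the three factors. -/
theorem cc_dvd_cases (hm : 1 ≤ m) (hF : Fintype.card F = 2 ^ m) {g : SL(2, F)} (hg : g ≠ 1) :
    (g * g = 1 ∧ cc g ∣ Fintype.card F) ∨
    (orderOf g ∣ Fintype.card F - 1 ∧ cc g ∣ Fintype.card F - 1) ∨
    (orderOf g ∣ Fintype.card F + 1 ∧ cc g ∣ Fintype.card F + 1) := by
  haveI : Fact (Nat.Prime 2) := ⟨Nat.prime_two⟩
  obtain ⟨o1, o2, o3⟩ := card_facts hm hF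
  have hdvd : cc g ∣ Fintype.card F * ((Fintype.card F - 1) * (Fintype.card F + 1)) :=
    card_sl2' (F := F) ▸ cc_dvd g
  have prime_el : ∀ p, p.Prime → p ∣ cc g → ∃ u ∈ cz g, u ≠ 1 ∧ orderOf u = p := by
    intro p hp hd
    haveI : Fact p.Prime := ⟨hp⟩
    obtain ⟨u, hu⟩ := exists_prime_orderOf_dvd_card' (G := cz g) p hd
    exact ⟨u, u.2, fun e => hp.ne_one (by rw [← hu, ← Subgroup.orderOf_coe, e, orderOf_one]),
      by rw [Subgroup.orderOf_coe, hu]⟩
  have cop : ∀ k : ℕ, (∀ p, p.Prime → p ∣ cc g → ¬ p ∣ k) → (cc g).Coprime k := fun k h =>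
    Nat.coprime_of_dvd fun p hp h1 h2 => h p hp h1 h2
  -- no element of mixed order
  have mixed : ∀ u ∈ cz g, u ≠ 1 → ∀ a b : ℕ, a.Coprime b → orderOf g ∣ a → orderOf u ∣ b →
      (a = Fintype.card F - 1 ∧ b = Fintype.card F + 1 ∨
       b = Fintype.card F - 1 ∧ a = Fintype.card F + 1) → False := by
    intro u hu hu1 a b hab ha hb hcase
    have hco : (orderOf g).Coprime (orderOf u) := hab.coprime_dvd_left ha |>.coprime_dvd_right hb
    have hc : Commute g u := (mem_cz.1 hu).symm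
    have ho := hc.orderOf_mul_eq_mul_orderOf_of_coprime hco
    rcases orderOf_cases (g * u) with h | h | h
    · have h2 : orderOf (g * u) ∣ 2 := orderOf_dvd_of_pow_eq_one (by rw [pow_two, h])
      rw [ho] at h2
      have hg2 : ¬ 2 ∣ orderOf g := fun h => by
        rcases hcase with ⟨rfl, -⟩ | ⟨-, rfl⟩
        · exact o1 (h.trans ha)
        · exact o2 (h.trans ha)
      rcases (Nat.dvd_prime Nat.prime_two).1 ((Dvd.intro _ rfl).trans h2) with e | e
      · exact hg (orderOf_eq_one_iff.1 e)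
      · exact hg2 (dvd_of_eq e.symm)
    · rw [ho] at h
      rcases hcase with ⟨rfl, rfl⟩ | ⟨rfl, rfl⟩
      · exact hu1 (orderOf_eq_one_iff.1
          (Nat.eq_one_of_dvd_coprimes o3 ((Dvd.intro_left _ rfl).trans h) hb))
      · exact hg (orderOf_eq_one_iff.1
          (Nat.eq_one_of_dvd_coprimes o3 ((Dvd.intro _ rfl).trans h) ha))
    · rw [ho] at h
      rcases hcase with ⟨rfl, rfl⟩ | ⟨rfl, rfl⟩
      · exact hg (orderOf_eq_one_iff.1
          (Nat.eq_one_of_dvd_coprimes o3 ha ((Dvd.intro _ rfl).trans h)))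
      · exact hu1 (orderOf_eq_one_iff.1
          (Nat.eq_one_of_dvd_coprimes o3 hb ((Dvd.intro_left _ rfl).trans h)))
  by_cases hsq : g * g = 1
  · left
    refine ⟨hsq, (cop _ fun p hp hd hpd => ?_).dvd_of_dvd_mul_right hdvd⟩
    obtain ⟨u, hu, hu1, huo⟩ := prime_el p hp hd
    have := sq_eq_one_of_comm hsq hg (mem_cz.1 hu)
    have hp2 : p = 2 := (Nat.prime_dvd_prime_iff_eq hp Nat.prime_two).1
      (huo ▸ orderOf_dvd_of_pow_eq_one (by rw [pow_two, this]))
    subst hp2
    rcases hp.dvd_mul.1 hpd with h | h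
    exacts [o1 h, o2 h]
  have hno : ∀ u ∈ cz g, u ≠ 1 → ¬ u * u = 1 := fun u hu hu1 h =>
    hsq (sq_eq_one_of_comm h hu1 (mem_cz.1 hu).symm)
  have hq : ∀ p, p.Prime → p ∣ cc g → ¬ p ∣ Fintype.card F := fun p hp hd hpd => by
    rw [hF] at hpd
    obtain rfl := (Nat.prime_dvd_prime_iff_eq hp Nat.prime_two).1 (hp.dvd_of_dvd_pow hpd)
    obtain ⟨u, hu, hu1, huo⟩ := prime_el 2 hp hd
    exact hno u hu hu1 (by have := pow_orderOf_eq_one u; rwa [huo, pow_two] at this)
  rcases orderOf_cases g with h | h | h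
  · exact absurd h hsq
  · refine Or.inr (Or.inl ⟨h, ?_⟩)
    refine (cop _ fun p hp hd hpd => ?_).dvd_of_dvd_mul_right
      ((cop _ hq).dvd_of_dvd_mul_left hdvd)
    obtain ⟨u, hu, hu1, huo⟩ := prime_el p hp hd
    exact mixed u hu hu1 _ _ o3 h (huo ▸ hpd) (Or.inl ⟨rfl, rfl⟩)
  · refine Or.inr (Or.inr ⟨h, ?_⟩)
    refine (cop _ fun p hp hd hpd => ?_).dvd_of_dvd_mul_left
      ((cop _ hq).dvd_of_dvd_mul_left hdvd)
    obtain ⟨u, hu, hu1, huo⟩ := prime_el p hp hd
    exact mixed u hu hu1 _ _ o3.symm h (huo ▸ hpd) (Or.inr ⟨rfl, rfl⟩)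

theorem exists_cc_torus (hm : 2 ≤ m) (hF : Fintype.card F = 2 ^ m) :
    (∃ g : SL(2, F), g ≠ 1 ∧ orderOf g = Fintype.card F - 1 ∧ cc g = Fintype.card F - 1) ∧
    (∃ g : SL(2, F), g ≠ 1 ∧ orderOf g = Fintype.card F + 1 ∧ cc g = Fintype.card F + 1) := by
  haveI : Fact (Nat.Prime 2) := ⟨Nat.prime_two⟩
  obtain ⟨o1, o2, o3⟩ := card_facts (m := m) (by omega) hF
  have h4 : 4 ≤ Fintype.card F := hF ▸ Nat.pow_le_pow_right two_pos hm
  have hsq : ∀ g : SL(2, F), g * g = 1 → orderOf g ∣ 2 := fun g h =>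
    orderOf_dvd_of_pow_eq_one (by rw [pow_two, h])
  constructor
  · obtain ⟨g, hg⟩ := exists_sl2_minus (F := F)
    have hg1 : g ≠ 1 := fun e => by rw [e, orderOf_one] at hg; omega
    refine ⟨g, hg1, hg, ?_⟩
    rcases cc_dvd_cases (by omega) hF hg1 with ⟨h, -⟩ | ⟨-, h⟩ | ⟨h, -⟩
    · have := Nat.le_of_dvd two_pos (hg ▸ hsq g h); omega
    · exact Nat.dvd_antisymm h (hg ▸ orderOf_dvd_cc g)
    · rw [hg] at h
      have := Nat.eq_one_of_dvd_coprimes o3 dvd_rfl h
      omega
  · obtain ⟨g, hg⟩ := exists_sl2_plus (F := F) 2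
    have hg1 : g ≠ 1 := fun e => by rw [e, orderOf_one] at hg; omega
    refine ⟨g, hg1, hg, ?_⟩
    rcases cc_dvd_cases (by omega) hF hg1 with ⟨h, -⟩ | ⟨h, -⟩ | ⟨-, h⟩
    · have := Nat.le_of_dvd two_pos (hg ▸ hsq g h); omega
    · rw [hg] at h
      have := Nat.eq_one_of_dvd_coprimes o3 h dvd_rfl
      omega
    · exact Nat.dvd_antisymm h (hg ▸ orderOf_dvd_cc g)

/-- The centralizer orders of non-identity elements. -/
theorem cc_set (hm : 2 ≤ m) (hF : Fintype.card F = 2 ^ m) :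
    {c : ℕ | ∃ x : SL(2, F), x ≠ 1 ∧ cc x = c} =
      {Fintype.card F, Fintype.card F - 1, Fintype.card F + 1} := by
  haveI : Fact (Nat.Prime 2) := ⟨Nat.prime_two⟩
  obtain ⟨o1, o2, o3⟩ := card_facts (m := m) (by omega) hF
  obtain ⟨⟨g0, hg0, hg0o, hg0c⟩, ⟨g1, hg1, hg1o, hg1c⟩⟩ := exists_cc_torus hm hF
  have hq2 : Fintype.card F = 2 ^ (Nat.card SL(2, F)).factorization 2 := by
    rw [card_sl2', Nat.factorization_mul Fintype.card_ne_zero (by
        have := Fintype.one_lt_card (α := F); exact mul_ne_zero (by omega) (by omega)),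
      Finsupp.add_apply,
      Nat.factorization_eq_zero_of_not_dvd (fun h => (Nat.prime_two.dvd_mul.1 h).elim o1 o2),
      hF, Nat.prime_two.factorization_pow, Finsupp.single_eq_same, Nat.add_zero]
  have inv_val : ∀ g : SL(2, F), g ≠ 1 → g * g = 1 → cc g = Fintype.card F := by
    intro g hg hsq
    rcases cc_dvd_cases (by omega) hF hg with ⟨-, h⟩ | ⟨-, h⟩ | ⟨-, h⟩
    · refine Nat.dvd_antisymm h ?_
      have hp : IsPGroup 2 (zpowers g) := IsPGroup.of_card (n := 1) (by
        rw [Nat.card_zpowers, pow_one]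
        exact orderOf_eq_prime (by rw [pow_two, hsq]) hg)
      obtain ⟨P, hP⟩ := hp.exists_le_sylow
      have hexp : ∀ u : (P : Subgroup SL(2, F)), u ^ 2 = 1 := fun u => by
        rcases orderOf_cases (u : SL(2, F)) with e | e | e
        · exact Subtype.ext (by simpa [pow_two] using e)
        all_goals
          obtain ⟨k, hk⟩ := IsPGroup.iff_orderOf.1 P.2 u
          rw [Subgroup.orderOf_coe, hk] at e
          rcases Nat.eq_zero_or_pos k with rfl | hk0
          · rw [pow_zero] at hk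
            rw [orderOf_eq_one_iff.1 hk, one_pow]
          · exfalso
            first
              | exact o1 ((dvd_pow_self 2 hk0.ne').trans e)
              | exact o2 ((dvd_pow_self 2 hk0.ne').trans e)
      have hle : (P : Subgroup SL(2, F)) ≤ cz g := fun u hu => mem_cz.2 (by
        have hu2 := congrArg Subtype.val (hexp ⟨u, hu⟩)
        simp only [SubmonoidClass.coe_pow, OneMemClass.coe_one] at hu2
        have hug := congrArg Subtype.val (hexp ⟨u * g, mul_mem hu (hP (mem_zpowers g))⟩)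
        simp only [SubmonoidClass.coe_pow, OneMemClass.coe_one] at hug
        rw [pow_two] at hu2 hug
        have e1 := eq_inv_of_mul_eq_one_left hug
        rw [mul_inv_rev, inv_eq_of_mul_eq_one_right hu2, inv_eq_of_mul_eq_one_right hsq] at e1
        exact e1)
      rw [hq2, ← P.card_eq_multiplicity]
      exact card_dvd_of_le hle
    · have h2 : 2 ∣ cc g := (dvd_of_eq (orderOf_eq_prime (by rw [pow_two, hsq]) hg).symm).trans
        (orderOf_dvd_cc g)
      exact absurd (h2.trans h) o1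
    · have h2 : 2 ∣ cc g := (dvd_of_eq (orderOf_eq_prime (by rw [pow_two, hsq]) hg).symm).trans
        (orderOf_dvd_cc g)
      exact absurd (h2.trans h) o2
  have torus : ∀ (g t : SL(2, F)) (n k : ℕ), g ≠ 1 → orderOf g ∣ n → orderOf t = n → cc t = n →
      Nat.card SL(2, F) = n * k → n.Coprime k → cc g = n := by
    intro g t n k hg hd hto htc hcard hco
    obtain ⟨j, p, hp, hpd, ho, hne⟩ := exists_prime_pow hg
    haveI : Fact p.Prime := ⟨hp⟩
    have hpn : p ∣ n := hpd.trans hd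
    have hn0 : n ≠ 0 := fun e => by simp [e] at hcard; exact (Nat.card_pos (α := SL(2, F))).ne' hcard
    have hk0 : k ≠ 0 := fun e => by simp [e] at hcard; exact (Nat.card_pos (α := SL(2, F))).ne' hcard
    have hfac : (Nat.card SL(2, F)).factorization p = n.factorization p := by
      rw [hcard, Nat.factorization_mul hn0 hk0, Finsupp.add_apply,
        Nat.factorization_eq_zero_of_not_dvd (fun h => hp.not_dvd_one (hco ▸ Nat.dvd_gcd hpn h)),
        Nat.add_zero]
    obtain ⟨P, hP⟩ := exists_sylow_le p (A := zpowers t) (by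
      rw [Nat.card_zpowers, hto, hfac]; exact Nat.ordProj_dvd _ _)
    have hpg : IsPGroup p (zpowers (g ^ j)) := IsPGroup.of_card (n := 1) (by
      rw [Nat.card_zpowers, ho, pow_one])
    obtain ⟨Q, hQ⟩ := hpg.exists_le_sylow
    obtain ⟨c, hc⟩ := MulAction.exists_smul_eq SL(2, F) Q P
    have hmem : c * g ^ j * c⁻¹ ∈ zpowers t := hP (hc ▸
      Subgroup.smul_mem_pointwise_smul (g ^ j) (MulAut.conj c) _ (hQ (mem_zpowers _)))
    obtain ⟨i, hi⟩ := mem_zpowers_iff.1 hmem
    have ht1 : t ≠ 1 := fun e => by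
      rw [e, orderOf_one] at hto; exact hp.not_dvd_one (hto ▸ hpn)
    have h1 : cz g = cz (g ^ j) := cz_eq_of_comm hg hne (Commute.self_pow g j)
    have h2 : cz (c * g ^ j * c⁻¹) = cz t :=
      cz_eq_of_comm (conj_ne_one hne c) ht1 (hi ▸ (Commute.refl t).zpow_left i)
    rw [cc, h1, ← cc, ← cc_conj c, cc, h2]
    exact htc
  ext c
  simp only [Set.mem_ofPred_eq, Set.mem_insert_iff, Set.mem_singleton_iff]
  constructor
  · rintro ⟨x, hx, rfl⟩
    rcases cc_dvd_cases (by omega) hF hx with ⟨h, -⟩ | ⟨h, -⟩ | ⟨h, -⟩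
    · exact Or.inl (inv_val x hx h)
    · refine Or.inr (Or.inl (torus x g0 _ (Fintype.card F * (Fintype.card F + 1)) hx h hg0o hg0c
        (by rw [card_sl2']; ring) (Nat.Coprime.mul_right ?_ o3)))
      rw [hF] at o1 ⊢
      exact (Nat.Coprime.pow_right _ (Nat.prime_two.coprime_iff_not_dvd.2 o1).symm)
    · refine Or.inr (Or.inr (torus x g1 _ (Fintype.card F * (Fintype.card F - 1)) hx h hg1o hg1c
        (by rw [card_sl2']; ring) (Nat.Coprime.mul_right ?_ o3.symm)))
      rw [hF] at o2 ⊢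
      exact (Nat.Coprime.pow_right _ (Nat.prime_two.coprime_iff_not_dvd.2 o2).symm)
  · rintro (rfl | rfl | rfl)
    · have hcard : 2 ∣ Nat.card SL(2, F) := by
        rw [card_sl2', hF]; exact Dvd.dvd.mul_right (dvd_pow_self 2 (by omega)) _
      obtain ⟨x, hx⟩ := exists_prime_orderOf_dvd_card' 2 hcard
      have hx1 : x ≠ 1 := fun e => by rw [e, orderOf_one] at hx; omega
      refine ⟨x, hx1, inv_val x hx1 ?_⟩
      have := pow_orderOf_eq_one x
      rwa [hx, pow_two] at this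
    · exact ⟨g0, hg0, hg0c⟩
    · exact ⟨g1, hg1, hg1c⟩

end CfsgLib.Characterizations.RankThree.Converse
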