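import Cfsg.Agent.Lib.Characterizations.RankThree.CaseA
import Cfsg.Agent.Lib.Characterizations.RankThree.CaseB
import Cfsg.Agent.Lib.Characterizations.RankThree.Converse
import Cfsg.Agent.Lib.Perm.SharpThreeOdd
import Cfsg.Agent.Lib.Classical.SLBasic

/-!
# Simple groups of conjugate type rank three (Itô)
-/

set_option autoImplicit false
set_option linter.unusedSectionVars false
set_option linter.style.haveILetI false

open scoped MatrixGroups

namespace CfsgLib.Characterizations.RankThree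

open Subgroup

variable {G : Type*} [Group G] [Finite G]

/-- The centralizer orders of non-identity elements. -/
def ccSet (G : Type*) [Group G] : Set ℕ := {c | ∃ x : G, x ≠ 1 ∧ cc x = c}

theorem ncard_index_eq (hZ : center G = ⊥) :
    Set.ncard {m : ℕ | ∃ x : G, x ∉ center G ∧ m = (centralizer ({x} : Set G)).index} =
      (ccSet G).ncard := by
  have himg : {m : ℕ | ∃ x : G, x ∉ center G ∧ m = (centralizer ({x} : Set G)).index} =
      (fun c => Nat.card G / c) '' ccSet G := by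
    ext n
    simp only [hZ, mem_bot, Set.mem_ofPred_eq, Set.mem_image, ccSet]
    constructor
    · rintro ⟨x, hx, rfl⟩
      exact ⟨cc x, ⟨x, hx, rfl⟩, (Nat.div_eq_of_eq_mul_right Nat.card_pos (cc_mul_index x).symm)⟩
    · rintro ⟨c, ⟨x, hx, rfl⟩, rfl⟩
      exact ⟨x, hx, Nat.div_eq_of_eq_mul_right Nat.card_pos (cc_mul_index x).symm⟩
  rw [himg]
  refine Set.InjOn.ncard_image ?_
  rintro a ⟨x, -, rfl⟩ b ⟨y, -, rfl⟩ e
  simp only at e
  have ex : Nat.card G / cc x = (cz x).index :=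
    Nat.div_eq_of_eq_mul_right Nat.card_pos (cc_mul_index x).symm
  have ey : Nat.card G / cc y = (cz y).index :=
    Nat.div_eq_of_eq_mul_right Nat.card_pos (cc_mul_index y).symm
  rw [ex, ey] at e
  have h := (cc_mul_index x).trans (cc_mul_index y).symm
  rw [← e] at h
  exact Nat.eq_of_mul_eq_mul_right (Nat.pos_of_ne_zero index_ne_zero_of_finite) h

theorem exists_psl_of_three [IsSimpleGroup G] (hnc : ¬ IsMulCommutative G)
    (h3 : (ccSet G).ncard = 3) :
    ∃ (m : ℕ) (F : Type) (_ : Field F) (_ : Fintype F), 2 ≤ m ∧ Fintype.card F = 2 ^ m ∧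
      Nonempty (G ≃* Matrix.ProjectiveSpecialLinearGroup (Fin 2) F) := by
  have hB : ∀ a b : G, a ≠ 1 → b ≠ 1 → cz a ≤ cz b → cz a = cz b := by
    intro a b ha hb hle
    by_contra hne
    have hfin : (ccSet G).Finite := Set.finite_of_ncard_pos (by omega)
    have hlt : cc a < cc b := by
      refine lt_of_le_of_ne (Nat.le_of_dvd Nat.card_pos (dvd_cc_of_le hle)) fun e => hne ?_
      exact cz_eq_of_le hle e.symm
    have hsub : ({cc a, cc b} : Set ℕ) ⊆ ccSet G := by
      rintro c (rfl | rfl)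
      exacts [⟨a, ha, rfl⟩, ⟨b, hb, rfl⟩]
    have hdiff : (ccSet G \ {cc a, cc b}).ncard = 1 := by
      rw [Set.ncard_sdiff hsub, h3, Set.ncard_pair hlt.ne]
    obtain ⟨c, hc⟩ := Set.ncard_eq_one.1 hdiff
    have hcm : c ∈ ccSet G \ {cc a, cc b} := hc ▸ Set.mem_singleton c
    obtain ⟨⟨z, hz, hzc⟩, hcn⟩ := hcm
    simp only [Set.mem_insert_iff, Set.mem_singleton_iff, not_or] at hcn
    refine CaseA.absurd_setup hnc
      { c₁ := cc a, c₂ := cc b, c₃ := c, hlt := hlt, hdvd := dvd_cc_of_le hle,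
        h31 := hcn.1, h32 := hcn.2, hS := fun x hx => ?_, ex2 := ⟨b, hb, rfl⟩,
        ex3 := ⟨z, hz, hzc⟩ }
    by_cases h : cc x ∈ ({cc a, cc b} : Set ℕ)
    · rcases h with h | h
      exacts [Or.inl h, Or.inr (Or.inl h)]
    · have : cc x ∈ ({c} : Set ℕ) := hc ▸ ⟨⟨x, hx, rfl⟩, h⟩
      exact Or.inr (Or.inr this)
  obtain ⟨F, _, _, hchar, ⟨e⟩⟩ := CaseB.exists_psl hB hnc
  haveI : Fact (Nat.Prime 2) := ⟨Nat.prime_two⟩
  obtain ⟨m, -, hm⟩ := FiniteField.card F 2
  obtain ⟨e'⟩ := CfsgLib.Perm.SharpThreeOdd.psl_equiv_sl (F := F)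
  refine ⟨m, F, inferInstance, inferInstance, ?_, hm, ⟨e.trans e'.symm⟩⟩
  by_contra hlt
  have hm1 : (m : ℕ) = 1 := by have := m.pos; omega
  have hcard : Nat.card G = 6 := by
    rw [Nat.card_congr e.toEquiv, CfsgLib.Classical.card_sl2', hm, hm1]
    norm_num
  haveI : Fact (Nat.Prime 3) := ⟨Nat.prime_three⟩
  obtain ⟨x, hx⟩ := exists_prime_orderOf_dvd_card' (G := G) 3 (by rw [hcard]; norm_num)
  have hz : (zpowers x).index = 2 := by
    have := (zpowers x).card_mul_index
    rw [Nat.card_zpowers, hx, hcard] at this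
    omega
  haveI := normal_of_index_eq_two hz
  rcases (inferInstance : (zpowers x).Normal).eq_bot_or_eq_top with h | h
  · rw [zpowers_eq_bot] at h
    rw [h, orderOf_one] at hx
    omega
  · rw [h, index_top] at hz
    omega

theorem three_of_psl (m : ℕ) (F : Type) [Field F] [Fintype F] (hm : 2 ≤ m)
    (hF : Fintype.card F = 2 ^ m) (e : G ≃* Matrix.ProjectiveSpecialLinearGroup (Fin 2) F) :
    IsSimpleGroup G ∧ ¬ IsMulCommutative G ∧ (ccSet G).ncard = 3 := by
  haveI : Fact (Nat.Prime 2) := ⟨Nat.prime_two⟩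
  haveI : CharP F 2 := charP_of_card_eq_prime_pow (f := m) hF
  haveI : IsSimpleGroup (Matrix.ProjectiveSpecialLinearGroup (Fin 2) F) :=
    CfsgLib.Classical.psl_fin_isSimpleGroup le_rfl fun _ => hF ▸ Nat.pow_le_pow_right two_pos hm
  obtain ⟨e'⟩ := CfsgLib.Perm.SharpThreeOdd.psl_equiv_sl (F := F)
  let ε := e.trans e'
  have hcc : ∀ x : G, cc x = cc (ε x) := fun x =>
    Nat.card_congr
      { toFun := fun z => ⟨ε z.1, mem_cz.2 ((mem_cz.1 z.2).map ε.toMonoidHom)⟩
        invFun := fun z => ⟨ε.symm z.1, mem_cz.2 (by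
          simpa using (mem_cz.1 z.2).map ε.symm.toMonoidHom)⟩
        left_inv := fun z => Subtype.ext (by simp)
        right_inv := fun z => Subtype.ext (by simp) }
  have hset : ccSet G = {c : ℕ | ∃ x : SL(2, F), x ≠ 1 ∧ cc x = c} := by
    ext c
    constructor
    · rintro ⟨x, hx, rfl⟩
      exact ⟨ε x, fun h => hx (ε.injective (by rw [h, map_one])), (hcc x).symm⟩
    · rintro ⟨x, hx, rfl⟩
      exact ⟨ε.symm x, fun h => hx (ε.symm.injective (by rw [h, map_one])),
        by rw [hcc, ε.apply_symm_apply]⟩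
  have h4 : 4 ≤ Fintype.card F := hF ▸ Nat.pow_le_pow_right two_pos hm
  have h3 : (ccSet G).ncard = 3 := by
    rw [hset, Converse.cc_set hm hF, Set.ncard_eq_three]
    exact ⟨_, _, _, by omega, by omega, by omega, rfl⟩
  haveI : Nontrivial G := e.toEquiv.nontrivial
  refine ⟨e.isSimpleGroup, fun hc => ?_, h3⟩
  have hone : (ccSet G).ncard ≤ 1 := by
    refine (Set.ncard_le_ncard (t := {Nat.card G}) ?_ (Set.toFinite _)).trans
      (Set.ncard_singleton _).le
    rintro c ⟨x, -, rfl⟩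
    have htop : cz x = ⊤ := eq_top_iff.2 fun z _ => mem_cz.2 (hc.is_comm.comm z x)
    rw [Set.mem_singleton_iff, cc, htop, card_top]
  omega

end CfsgLib.Characterizations.RankThree
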